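import Groth.Agent.Lib.UInvFG21.Transfer
import Groth.Agent.Lib.TorPts21.UnipPart
import Groth.Agent.Lib.TorPts21.BorelChart
import Groth.Agent.Lib.TorPts21.RadicalImage

/-!
# Invariants of tori on stable subalgebras
-/

set_option autoImplicit false
set_option linter.style.haveILetI false
set_option backward.isDefEq.respectTransparency.types false
universe u

open CategoryTheory MonoidalCategory CartesianMonoidalCategory MonObj AlgebraicGeometry
open scoped TensorProduct

noncomputable section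

namespace Groth.Agent.UInvFG21

open InvRing21 TorPts21 MatGrp21

attribute [local instance] InvRing21.gamAlg BorelFix21.ptsTop

variable {k : Type u} [Field k] {G H : Over (Spec (CommRingCat.of k))} [GrpObj G] [GrpObj H]

/-- Restriction of a module along a homomorphism. -/
def resMod {M : Type u} [AddCommGroup M] [Module k M] (ρ : VecGrp.GMod G M) (i : H ⟶ G) [IsMonHom i] :
    VecGrp.GMod H M where
  ρ B _ _ := (ρ.ρ B).comp
    { toFun := fun h => h ≫ i, map_one' := MonObj.one_comp i, map_mul' := fun g h => MonObj.mul_comp g h i }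
  naturality {B B'} _ _ _ _ φ g x := by
    show VecGrp.Wmap φ (ρ.ρ B (g ≫ i) x) = ρ.ρ B' ((VecGrp.ptMap φ ≫ g) ≫ i) (VecGrp.Wmap φ x)
    rw [ρ.naturality, Category.assoc]

theorem ptAct_resMod {M : Type u} [AddCommGroup M] [Module k M] (ρ : VecGrp.GMod G M) (i : H ⟶ G) [IsMonHom i]
    (h : VecGrp.pt k k ⟶ H) (a : M) : ptAct (resMod ρ i) h a = ptAct ρ (h ≫ i) a := rfl

variable {A : Type u} [CommRing A] [Algebra k A] {ρ : VecGrp.GMod G A}

theorem resMod_isMult (hρ : ρ.IsMult) (i : H ⟶ G) [IsMonHom i] : (resMod ρ i).IsMult :=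
  fun B _ _ h => hρ B (h ≫ i)

variable [IsAlgClosed k]

/-- A subalgebra stable at rational points carries an action. -/
theorem exists_subalgMod [IsAffine G.left] [Smooth G.hom] (hρ : ρ.IsMult) (R : Subalgebra k A)
    (hR : ∀ (g : VecGrp.pt k k ⟶ G), ∀ a ∈ R, ptAct ρ g a ∈ R) :
    ∃ σ : VecGrp.GMod G R, σ.IsMult ∧ ∀ (g : VecGrp.pt k k ⟶ G) (a : R), (ptAct σ g a).1 = ptAct ρ g a.1 := by
  obtain ⟨σ, hσ⟩ := GrassAct21.exists_subMod ρ (Subalgebra.toSubmodule R) hR
  refine ⟨σ, fun B _ _ g => ?_, fun g a => ?_⟩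
  · let S : B ⊗[k] R →ₐ[B] B ⊗[k] A := Algebra.TensorProduct.map (AlgHom.id B B) R.val
    have hS : ∀ z, S z = (Subalgebra.toSubmodule R).subtype.baseChange B z := fun z => by
      induction z using TensorProduct.induction_on with
      | zero => simp
      | tmul b f => rfl
      | add p q hp hq => simp only [map_add, hp, hq]
    have hinj : Function.Injective S := fun a b hab => by
      rw [hS, hS] at hab
      exact Module.Flat.lTensor_preserves_injective_linearMap (M := B) _
        (Subalgebra.toSubmodule R).injective_subtype hab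
    have hc : ∀ z, S (σ.ρ B g z) = actHom hρ g (S z) := fun z => by rw [hS, hS]; exact hσ B g z
    exact ⟨fun p q => hinj (by rw [hc, map_mul S, map_mul (actHom hρ g), map_mul S, hc, hc]),
      hinj (by rw [hc, map_one S, map_one (actHom hρ g)])⟩
  · have := congrArg (TensorProduct.lid k A) (hσ k g ((1 : k) ⊗ₜ[k] a))
    rw [GrassAct21.lid_baseChange, LinearMap.baseChange_tmul] at this
    exact this

omit [GrpObj H] in
/-- A torus is reductive. -/
theorem isReductiveOver_torus {σ : Over (Spec (CommRingCat.of k))} [GrpObj σ] (hσ : Red.IsTorus σ) :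
    Red.IsReductiveOver k σ := by
  obtain ⟨ha, hs, hn, -⟩ := props_of_isTorus hσ
  haveI := ha
  haveI := hs
  haveI := hn
  obtain ⟨d, ⟨C⟩⟩ := exists_chars hσ
  have hsol : Red.IsSolvableGrp σ := by
    letI : CommGroup (VecGrp.pt k k ⟶ σ) :=
      { (inferInstance : Group (VecGrp.pt k k ⟶ σ)) with mul_comm := fun x y => commute_of_chars C x y }
    exact BorelFix21.isSolvableGrp_of_points inferInstance
  obtain ⟨n, r, hr, hrc, hu⟩ := exists_upper_embedding (𝟙 σ) hsol
  haveI := hr
  haveI := hrc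
  obtain ⟨P, a, hP⟩ := exists_weights C r
  refine ⟨ha, hs, hn, fun U _ i _ hic hus hun _ hns => ?_⟩
  haveI := hic
  haveI := hus
  haveI := hun
  haveI : IsAffine U.left := isAffine_of_isAffineHom i.left
  haveI : IsClosedImmersion (i ≫ r).left := by rw [Over.comp_left]; infer_instance
  haveI : Mono i := Over.mono_of_mono_left i
  have hup : (mtx (i ≫ r)).range ≤ upper := by
    rintro _ ⟨y, rfl⟩
    rw [mtx_comp]
    exact hu ⟨y ≫ i, by rw [mtx_comp, Category.comp_id]⟩
  refine isTrivialGrp_of_pts fun x => (cancel_mono i).1 (mtxFn_injective r ?_)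
  have h1 : mtx r (x ≫ i) = 1 := eq_one_of_isUnip_of_isDiag (P := P) (by rw [hP]; exact Matrix.isDiag_diagonal _)
    (isUnip_of_mem_lay (range_le_lay_of_hasNoSubtorus (i ≫ r) hup hns ⟨x, mtx_comp i r x⟩))
  rw [← mtx_apply, ← mtx_apply, h1, MonObj.one_comp, map_one]

theorem isReductiveGrp_torus {σ : Over (Spec (CommRingCat.of k))} [GrpObj σ] (hσ : Red.IsTorus σ) :
    VecGrp.IsReductiveGrp k σ := by
  have h := isReductiveOver_torus hσ
  exact ⟨h.1, h.2.1, σ, inferInstance, 𝟙 σ, inferInstance, inferInstanceAs (IsOpenImmersion (𝟙 σ.left)), h⟩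

/-- Invariants of a torus in a finitely generated stable subalgebra are finitely generated. -/
theorem fg_inf_fixed_torus [IsAffine G.left] (hρ : ρ.IsMult) {σ : Over (Spec (CommRingCat.of k))} [GrpObj σ]
    (hσ : Red.IsTorus σ) (s : σ ⟶ G) [IsMonHom s] (thmA : VecGrp.ReductiveInvariantsFG k) (R : Subalgebra k A)
    (hfg : R.FG) (hR : ∀ (g : VecGrp.pt k k ⟶ σ), ∀ a ∈ R, ptAct ρ (g ≫ s) a ∈ R) :
    (R ⊓ ρ.fixedSubalgebra hρ s).FG := by
  classical
  obtain ⟨ha, hs, -, -⟩ := props_of_isTorus hσ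
  haveI := ha
  haveI := hs
  obtain ⟨τ, hτ, hτv⟩ := exists_subalgMod (resMod_isMult hρ s) R hR
  haveI : Algebra.FiniteType k R := (Subalgebra.fg_iff_finiteType R).1 hfg
  obtain ⟨t, ht, hgen⟩ := thmA σ (isReductiveGrp_torus hσ) R τ hτ inferInstance
  have hiff : ∀ a : R, a ∈ τ.fixedUnder (𝟙 σ) ↔ (a : A) ∈ ρ.fixedUnder s := fun a => by
    refine ⟨fun h => mem_fixedUnder_of_points ρ fun g => ?_, fun h => mem_fixedUnder_of_points τ fun g => ?_⟩
    · have := ptAct_eq_of_fixed τ h g
      rw [Category.comp_id] at this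
      rw [← ptAct_resMod, ← hτv, this]
    · rw [Category.comp_id]
      exact Subtype.ext ((hτv g a).trans (ptAct_eq_of_fixed ρ h g))
  refine ⟨t.image R.val, le_antisymm (Algebra.adjoin_le ?_) fun a ⟨haR, haf⟩ => ?_⟩
  · rw [Finset.coe_image]
    rintro _ ⟨a, ha', rfl⟩
    exact ⟨a.2, (hiff a).1 (ht ha')⟩
  · rw [Finset.coe_image, ← AlgHom.map_adjoin]
    exact ⟨⟨a, haR⟩, hgen ((hiff _).2 haf), rfl⟩

end Groth.Agent.UInvFG21
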