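import Groth.Agent.Lib.TorPts21.UnipPart
import Groth.Agent.Lib.TorPts21.GeomIso
import Groth.Agent.Lib.MatGrp21.Lift
import Groth.Agent.Lib.InvRing21.Semi
import Groth.Agent.Lib.SimDiag.Basic

/-!
# Functions invariant under the unipotent radical of a solvable subgroup are sums of semi-invariants
-/

set_option autoImplicit false
set_option linter.style.haveILetI false
set_option backward.isDefEq.respectTransparency.types false
universe u

open CategoryTheory Limits MonoidalCategory CartesianMonoidalCategory MonObj AlgebraicGeometry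

noncomputable section

namespace Groth.Agent.UInvFG21

open InvRing21 TorPts21 MatGrp21

attribute [local instance] InvRing21.gamAlg BorelFix21.ptsTop

variable {k : Type u} [Field k] [IsAlgClosed k] {G B U : Over (Spec (CommRingCat.of k))} [GrpObj G] [GrpObj B]
  [IsAffine G.left] [Smooth G.hom]

/-- The subalgebra of functions invariant at points under right translation by a subgroup. -/
def invSub (j : U ⟶ G) : Subalgebra k Γ(G.left, ⊤) where
  carrier := {f | ∀ (x : VecGrp.pt k k ⟶ G) (q : VecGrp.pt k k ⟶ U), val (x * (q ≫ j)) f = val x f}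
  mul_mem' {f g} hf hg x q := by simp only [map_mul, hf x q, hg x q]
  add_mem' {f g} hf hg x q := by simp only [map_add, hf x q, hg x q]
  algebraMap_mem' c x q := by simp only [AlgHom.commutes]

variable {iB : B ⟶ G} [IsMonHom iB] [GrpObj U] {u : U ⟶ B}

omit [IsAlgClosed k] [IsAffine G.left] [Smooth G.hom] [GrpObj B] [IsMonHom iB] [GrpObj U] in
theorem mem_invSub {j : U ⟶ G} {f : Γ(G.left, ⊤)} :
    f ∈ invSub j ↔ ∀ (x : VecGrp.pt k k ⟶ G) (q : VecGrp.pt k k ⟶ U), val (x * (q ≫ j)) f = val x f :=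
  Iff.rfl

/-- A subspace stable under the regular representation is stable under translation by rational points. -/
theorem rTr_mem {W : Submodule k Γ(G.left, ⊤)} [Module.Finite k W]
    (hW : ∀ w ∈ W, ∀ (B' : Type u) [CommRing B'] [Algebra k B'] (p : VecGrp.pt k B' ⟶ G),
      ∃ (n : ℕ) (c : Fin n → B') (v : Fin n → Γ(G.left, ⊤)), (∀ a, v a ∈ W) ∧
        (regular G).ρ B' p (1 ⊗ₜ[k] w) = ∑ a, c a ⊗ₜ[k] v a)
    (g : VecGrp.pt k k ⟶ G) {w : Γ(G.left, ⊤)} (hw : w ∈ W) : (rTr g).left.appTop w ∈ W := by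
  obtain ⟨ξ, -, hexp, hE⟩ := exists_coords (regular G) hW (Module.finBasis k W)
  let e := Module.finBasis k W
  have h : (rTr g).left.appTop w = ∑ b, ξ b w • ∑ a, val g (coef (regular G) (ξ a) (e b)) • (e a : Γ(G.left, ⊤)) := by
    refine ext_val fun x => ?_
    rw [val_rTr]
    conv_lhs => rw [hexp w hw]
    simp only [map_sum, map_smul, smul_eq_mul]
    refine Finset.sum_congr rfl fun b _ => ?_
    rw [val_mul_coords e hE]
  rw [h]
  exact W.sum_mem fun b _ => W.smul_mem _ (W.sum_mem fun a _ => W.smul_mem _ (e a).2)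

variable [IsClosedImmersion iB.left] [Smooth B.hom] [ConnectedSpace B.left]

set_option maxHeartbeats 1600000 in
/-- An invariant of the unipotent radical is a sum of semi-invariants of the solvable group. -/
theorem mem_span_semi (hB : Red.IsSolvableGrp B) (hU : Par.IsUnipotentRadical u) {f : Γ(G.left, ⊤)}
    (hf : f ∈ invSub (u ≫ iB)) :
    f ∈ Submodule.span k {g | g ∈ invSub (u ≫ iB) ∧ ∃ ξ, Semi iB ξ g} := by
  classical
  haveI : IsAffine B.left := isAffine_of_isAffineHom iB.left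
  obtain ⟨hum, huc, hunorm, -, -, -, -, hmax⟩ := (isUnipotentRadical_iff u).1 hU
  haveI := hum
  obtain ⟨n, r, hr, hrc, hru⟩ := exists_upper_embedding (𝟙 B) hB
  haveI := hr
  haveI := hrc
  haveI : IsClosedImmersion (𝟙 B : B ⟶ B).left := inferInstanceAs (IsClosedImmersion (𝟙 B.left))
  obtain ⟨V, _, v, hvm, hvc, hvs, hvn, hvnorm, hvns, hvpts⟩ := exists_unip_part r (𝟙 B) hru
  haveI := hvm
  haveI := hvc
  haveI := hvs
  haveI : IsAffine V.left := isAffine_of_isAffineHom v.left
  obtain ⟨vU, hvU⟩ := hmax V v hvc hvnorm hvs inferInstance hvn hvns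
  -- the finite dimensional representation
  obtain ⟨W₀, hW₀fin, hfW₀, hW₀⟩ := exists_stable_span (regular G) {f}
  haveI := hW₀fin
  set R := Subalgebra.toSubmodule (invSub (u ≫ iB))
  let W : Submodule k Γ(G.left, ⊤) := W₀ ⊓ R
  haveI : FiniteDimensional k W := Submodule.finiteDimensional_inf_left _ _
  have hWst : ∀ b : VecGrp.pt k k ⟶ B, ∀ w ∈ W, (rTr (b ≫ iB)).left.appTop w ∈ W := fun b w hw => by
    refine ⟨rTr_mem hW₀ _ hw.1, fun x q => ?_⟩
    obtain ⟨q', hq'⟩ := hunorm (VecGrp.pt k k) b⁻¹ q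
    rw [inv_inv] at hq'
    have h1 := hw.2 (x * (b ≫ iB)) q'
    rw [val_rTr, val_rTr]
    refine Eq.trans ?_ h1
    congr 1
    rw [← Category.assoc q', ← hq', MonObj.mul_comp, MonObj.mul_comp, GrpObj.inv_comp, Category.assoc q]
    group
  let Rep : (VecGrp.pt k k ⟶ B) →* Module.End k W :=
    { toFun := fun b => (appAlg (rTr (b ≫ iB))).toLinearMap.restrict (hWst b)
      map_one' := LinearMap.ext fun w => Subtype.ext (ext_val fun x => by
        show val x ((rTr ((1 : VecGrp.pt k k ⟶ B) ≫ iB)).left.appTop w.1) = val x w.1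
        rw [val_rTr, MonObj.one_comp, _root_.mul_one x])
      map_mul' := fun a b => LinearMap.ext fun w => Subtype.ext (ext_val fun x => by
        show val x ((rTr ((a * b) ≫ iB)).left.appTop w.1) =
          val x ((rTr (a ≫ iB)).left.appTop ((rTr (b ≫ iB)).left.appTop w.1))
        rw [val_rTr, val_rTr, val_rTr, MonObj.mul_comp, _root_.mul_assoc x]) }
  have hRep : ∀ b (w : W) x, val x (Rep b w).1 = val (x * (b ≫ iB)) w.1 := fun b w x => val_rTr _ _ _
  have hker : ∀ b, mtx (𝟙 B ≫ r) b ∈ lay 1 → Rep b = 1 := fun b hb => by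
    obtain ⟨y, rfl⟩ := (hvpts b).2 hb
    refine LinearMap.ext fun w => Subtype.ext (ext_val fun x => ?_)
    rw [hRep, ← hvU, ← Category.assoc, Category.assoc (y ≫ vU)]
    exact w.2.2 x (y ≫ vU)
  have hcomm : ∀ a b, Commute (Rep a) (Rep b) := fun a b => by
    have h1 : Rep (a * b * (b * a)⁻¹) = 1 := hker _ (by
      rw [map_mul, map_inv, map_mul, map_mul, mem_lay_one_iff]
      have hm := fun c => hru ⟨c, rfl⟩
      refine ⟨mul_mem (mul_mem (hm a) (hm b)) (inv_mem (mul_mem (hm b) (hm a))), fun i => ?_⟩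
      let A' : (upper : Subgroup (GL (Fin n) k)) := ⟨_, hm a⟩
      let B' : (upper : Subgroup (GL (Fin n) k)) := ⟨_, hm b⟩
      have h2 : diagU (A' * B' * (B' * A')⁻¹) = 1 := by
        simp only [map_mul, map_inv, _root_.mul_comm (diagU B')]
        exact mul_inv_cancel _
      exact congrArg Units.val (congrFun h2 i))
    have h3 : Rep (a * b * (b * a)⁻¹ * (b * a)) = Rep (b * a) := by rw [map_mul, h1, _root_.one_mul]
    rw [inv_mul_cancel_right, map_mul, map_mul] at h3
    exact h3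
  -- torsion points act semisimply
  let ι' := {b : VecGrp.pt k k ⟶ B // ∃ L : ℕ, (L : k) ≠ 0 ∧ b ^ L = 1}
  have hdiag : ∀ i : ι', ⨆ ν : k, Module.End.eigenspace ((Rep i.1).restrictScalars k) ν = ⊤ := fun i => by
    obtain ⟨L, hL, hbL⟩ := i.2
    have hfL : Rep i.1 ^ L = 1 := by rw [← map_pow, hbL, map_one]
    have hss : (Rep i.1).IsSemisimple :=
      Module.End.isSemisimple_of_squarefree_aeval_eq_zero (p := Polynomial.X ^ L - Polynomial.C 1)
        (Polynomial.separable_X_pow_sub_C 1 hL one_ne_zero).squarefree (by simp [hfL])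
    have h1 : ⨆ ν : k, Module.End.maxGenEigenspace (Rep i.1) ν = ⊤ := Module.End.iSup_maxGenEigenspace_eq_top _
    simpa [hss.isFinitelySemisimple.maxGenEigenspace_eq_eigenspace] using h1
  have htop := SimDiag.iSup_iInf_eigenspace_eq_top (R := k) (fun i : ι' => Rep i.1) (fun i j => hcomm _ _) hdiag
    fun _ => ⟨⊤, trivial, Module.Finite.fg_top, fun _ _ _ => trivial⟩
  -- torsion eigenvectors are semi-invariant
  haveI : IsClosedImmersion (𝟙 B ≫ r).left := by rw [Category.id_comp]; infer_instance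
  obtain ⟨D⟩ := nonempty_decomp hru (isClosed_range_mtx (𝟙 B ≫ r)) (isPreirreducible_range_mtx' (𝟙 B ≫ r))
  have key : ∀ w : W, (∀ i : ι', ∃ c : k, Rep i.1 w = c • w) →
      w.1 ∈ Submodule.span k {g | g ∈ invSub (u ≫ iB) ∧ ∃ ξ, Semi iB ξ g} := fun w hw => by
    by_cases hw0 : w.1 = 0
    · rw [hw0]; exact Submodule.zero_mem _
    obtain ⟨x₀, hx₀⟩ := exists_val_ne_zero hw0
    let C : Set (VecGrp.pt k k ⟶ B) :=
      {b | ∀ x, val (x * (b ≫ iB)) w.1 * val x₀ w.1 = val (x₀ * (b ≫ iB)) w.1 * val x w.1}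
    have hC : IsClosed C := by
      have hF : ∀ x, ∀ b : VecGrp.pt k k ⟶ B, val (x * (b ≫ iB)) w.1 = val b (iB.left.appTop ((lTr x).left.appTop w.1)) :=
        fun x b => by rw [appTop_val, val_lTr]
      have : C = ⋂ x, {b | val b (val x₀ w.1 • iB.left.appTop ((lTr x).left.appTop w.1) -
          val x w.1 • iB.left.appTop ((lTr x₀).left.appTop w.1)) = 0} := by
        ext b
        simp only [C, hF, Set.mem_ofPred_eq, Set.mem_iInter, map_sub, map_smul, smul_eq_mul, sub_eq_zero]
        exact forall_congr' fun x => by rw [_root_.mul_comm (val x₀ w.1), _root_.mul_comm (val x w.1)]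
      rw [this]
      exact isClosed_iInter fun x => BorelFix21.isClosed_val_eq _ 0
    have hT : (D.T : Set (GL (Fin n) k)) ⊆ mtxFn (𝟙 B ≫ r) '' C := by
      refine D.dense.trans (closure_minimal ?_ (isClosed_image_mtxFn (𝟙 B ≫ r) hC))
      rintro t ⟨ht, L, hL, htL⟩
      obtain ⟨b, rfl⟩ := D.le ht
      refine ⟨b, fun x => ?_, rfl⟩
      have hbL : b ^ L = 1 := mtxFn_injective (𝟙 B ≫ r) (by
        rw [← mtx_apply, ← mtx_apply, map_pow, htL, map_one])
      obtain ⟨c, hc⟩ := hw ⟨b, L, hL, hbL⟩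
      simp only [← hRep, hc, SetLike.val_smul, map_smul, smul_eq_mul]
      ring
    have hall : ∀ b, b ∈ C := fun b => by
      obtain ⟨t, ht, htb⟩ := D.exists_mem _ ⟨b, rfl⟩
      obtain ⟨τ, hτ, hτe⟩ := hT ht
      have h1 : Rep b = Rep τ := by
        have h2 : Rep (τ⁻¹ * b) = 1 := hker _ (by rw [map_mul, map_inv, mtx_apply _ τ, hτe]; exact htb)
        calc Rep b = Rep τ * Rep (τ⁻¹ * b) := by rw [← map_mul, mul_inv_cancel_left]
          _ = Rep τ := by rw [h2, _root_.mul_one]
      intro x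
      rw [← hRep, ← hRep, h1, hRep, hRep]
      exact hτ x
    refine Submodule.subset_span ⟨w.2.2, fun b => val (x₀ * (b ≫ iB)) w.1 / val x₀ w.1, fun x b => ?_⟩
    rw [div_mul_eq_mul_div, eq_div_iff hx₀]
    exact hall b x
  have hfW : f ∈ W := ⟨hfW₀ f (Finset.mem_singleton_self f), hf⟩
  suffices h : ∀ w ∈ (⊤ : Submodule k W), w.1 ∈ Submodule.span k {g | g ∈ invSub (u ≫ iB) ∧ ∃ ξ, Semi iB ξ g} from
    h ⟨f, hfW⟩ trivial
  intro w hw
  rw [← htop] at hw
  induction hw using Submodule.iSup_induction' with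
  | mem χ w hw => exact key w fun i => ⟨χ i, Module.End.mem_eigenspace_iff.1 ((Submodule.mem_iInf _).1 hw i)⟩
  | zero => exact Submodule.zero_mem _
  | add w w' _ _ h h' => exact Submodule.add_mem _ h h'

end Groth.Agent.UInvFG21
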