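import Groth.Agent.Lib.MTRigid29.ExtendNormal
import Groth.Agent.Lib.UnitsFG.Domain
import Groth.Agent.Lib.UnitsRos.Affine
import Mathlib.RingTheory.IntegralClosure.Algebra.Basic
import Mathlib.RingTheory.Ideal.KrullsHeightTheorem
import Mathlib.Order.WellFoundedSet

/-!
# Divisors supported on a hypersurface of a normal variety
-/

set_option autoImplicit false
set_option linter.style.haveILetI false
universe u

noncomputable section

namespace Groth.Agent.UInvFG21

variable {A : Type u} [CommRing A] [IsDomain A] [IsNoetherianRing A] [IsIntegrallyClosed A]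

/-- Divisibility by a divisor of a power of `h` is tested at the minimal primes over `h`. -/
theorem dvd_of_forall_minimal {h f g : A} {m : ℕ} (hh : h ≠ 0) (hg : g ∣ h ^ m)
    (hloc : ∀ P ∈ (Ideal.span {h}).minimalPrimes, ∃ a d, d ∉ P ∧ d * f = a * g) : g ∣ f := by
  classical
  have hg0 : g ≠ 0 := fun e => pow_ne_zero m hh (zero_dvd_iff.1 (e ▸ hg))
  rw [← Ideal.mem_span_singleton]
  by_contra hf
  set I := Ideal.span ({g} : Set A) with hI
  let J : A → Ideal A := fun e => Submodule.comap (LinearMap.mulRight A e) I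
  have hJ : ∀ a e, a ∈ J e ↔ a * e ∈ I := fun a e => Iff.rfl
  obtain ⟨P, ⟨e, he, hle, rfl⟩, hmax⟩ := (set_has_maximal_iff_noetherian.2 ‹IsNoetherianRing A›)
    {Q | ∃ e, e ∉ I ∧ J f ≤ Q ∧ Q = J e} ⟨_, f, hf, le_rfl, rfl⟩
  have htop : J e ≠ ⊤ := fun ht => he (by simpa using (hJ 1 e).1 (ht ▸ Submodule.mem_top))
  haveI hP : (J e).IsPrime := ⟨htop, fun {a b} hab => or_iff_not_imp_right.2 fun hb => by
    by_contra ha
    refine hmax (J (b * e)) ⟨b * e, hb, hle.trans ?_, rfl⟩ (lt_of_le_of_ne ?_ ?_)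
    · intro x hx
      rw [hJ] at hx ⊢
      rw [mul_left_comm]
      exact I.mul_mem_left b hx
    · intro x hx
      rw [hJ] at hx ⊢
      rw [mul_left_comm]
      exact I.mul_mem_left b hx
    · intro heq
      refine ha (heq ▸ ?_)
      rw [hJ, ← mul_assoc]
      exact hab⟩
  have hgP : g ∈ J e := I.mul_mem_right e (Ideal.mem_span_singleton_self g)
  obtain ⟨t, ht⟩ := hg
  have hhP : h ∈ J e := hP.mem_of_pow_mem m (ht ▸ (J e).mul_mem_right t hgP)
  -- some element of the prime moves the class out of the prime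
  obtain ⟨p₀, hp₀, r, hr, hr'⟩ : ∃ p₀ ∈ J e, ∃ r ∉ J e, p₀ * e = g * r := by
    by_contra! hno
    have hgK : algebraMap A (FractionRing A) g ≠ 0 := by
      simpa using (IsFractionRing.injective A (FractionRing A)).ne hg0
    set N : Submodule A (FractionRing A) :=
      Submodule.map (Algebra.linearMap A (FractionRing A)) (J e) with hN
    have hint : IsIntegral A (algebraMap A (FractionRing A) e / algebraMap A (FractionRing A) g) := by
      refine isIntegral_of_smul_mem_submodule N ?_ ((IsNoetherian.noetherian _).map _) _ ?_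
      · intro hbot
        have h1 : algebraMap A (FractionRing A) g ∈ N := ⟨g, hgP, rfl⟩
        rw [hbot, Submodule.mem_bot] at h1
        exact hgK h1
      · rintro _ ⟨p, hp, rfl⟩
        obtain ⟨s, hs⟩ := Ideal.mem_span_singleton.1 ((hJ p e).1 hp)
        refine ⟨s, by_contra fun hs' => hno p hp s hs' hs, ?_⟩
        show algebraMap A _ s = _ * algebraMap A _ p
        rw [div_mul_eq_mul_div, eq_div_iff hgK, ← map_mul, ← map_mul, mul_comm s g, mul_comm e p, hs]
    obtain ⟨c, hc⟩ := IsIntegrallyClosed.isIntegral_iff.1 hint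
    rw [eq_div_iff hgK, ← map_mul] at hc
    exact he (Ideal.mem_span_singleton.2 ⟨c, by rw [← IsFractionRing.injective A (FractionRing A) hc, mul_comm]⟩)
  have hmin : J e ∈ (Ideal.span {p₀}).minimalPrimes := by
    refine ⟨⟨hP, (Ideal.span_singleton_le_iff_mem _).2 hp₀⟩, fun Q ⟨hQ, hpQ⟩ hQle p hp => ?_⟩
    obtain ⟨s, hs⟩ := Ideal.mem_span_singleton.1 ((hJ p e).1 hp)
    have h1 : r * p = p₀ * s := mul_left_cancel₀ hg0 (by
      rw [← mul_assoc, ← hr', mul_assoc, mul_comm e p, hs]; ring)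
    have h2 : r * p ∈ Q := h1 ▸ Q.mul_mem_right s ((Ideal.span_singleton_le_iff_mem _).1 hpQ)
    exact (hQ.mem_or_mem h2).resolve_left fun h' => hr (hQle h')
  have hht : (J e).height ≤ 1 := Ideal.height_le_one_of_isPrincipal_of_mem_minimalPrimes _ _ hmin
  obtain ⟨Q, hQ, hQle⟩ := Ideal.exists_minimalPrimes_le ((Ideal.span_singleton_le_iff_mem _).2 hhP)
  have hQP : Q = J e := by
    by_contra hne
    haveI := hQ.1.1
    haveI : (J e).FiniteHeight := ⟨Or.inr (ne_top_of_le_ne_top ENat.one_ne_top hht)⟩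
    haveI : Q.FiniteHeight := Ideal.finiteHeight_of_le hQle hP.ne_top
    have h1 := (Ideal.height_strict_mono_of_isPrime (lt_of_le_of_ne hQle hne)).trans_le hht
    rw [Order.lt_one_iff] at h1
    have h2 := Ideal.height_eq_zero_iff.mp h1
    rw [IsDomain.minimalPrimes_eq_singleton_bot, Set.mem_singleton_iff] at h2
    exact hh (by simpa [h2] using hQ.1.2 (Ideal.mem_span_singleton_self h))
  obtain ⟨a, d, hd, hdf⟩ := hloc Q hQ
  refine hd (hQP ▸ hle ?_)
  rw [hJ, hdf]
  exact I.mul_mem_left a (Ideal.mem_span_singleton_self g)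

omit [IsIntegrallyClosed A] in
/-- A minimal prime over a nonzero element of a noetherian domain has height one. -/
theorem height_eq_one_of_minimal {h : A} (hh : h ≠ 0) {P : Ideal A} (hP : P ∈ (Ideal.span {h}).minimalPrimes) :
    P.height = 1 := by
  haveI := hP.1.1
  refine le_antisymm (Ideal.height_le_one_of_isPrincipal_of_mem_minimalPrimes _ _ hP) ?_
  rw [Order.one_le_iff_pos, pos_iff_ne_zero]
  intro h0
  have h2 := Ideal.height_eq_zero_iff.mp h0
  rw [IsDomain.minimalPrimes_eq_singleton_bot, Set.mem_singleton_iff] at h2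
  exact hh (by simpa [h2] using hP.1.2 (Ideal.mem_span_singleton_self h))

open IsDiscreteValuationRing in
/-- Orders along the minimal primes over `h`. -/
theorem exists_order {h : A} (hh : h ≠ 0) :
    ∃ (s : ℕ) (ν : A → Fin s → ℕ), (∀ f g, f ≠ 0 → g ≠ 0 → ν (f * g) = ν f + ν g) ∧
      ∀ f g m, f ≠ 0 → g ∣ h ^ m → ν g ≤ ν f → g ∣ f := by
  classical
  set S := (Ideal.finite_minimalPrimes_of_isNoetherianRing A (Ideal.span {h})).toFinset
  let P : Fin S.card → Ideal A := fun i => (S.equivFin.symm i).1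
  have hPmin : ∀ i, P i ∈ (Ideal.span {h}).minimalPrimes := fun i =>
    (Set.Finite.mem_toFinset _).1 (S.equivFin.symm i).2
  haveI : ∀ i, (P i).IsPrime := fun i => (hPmin i).1.1
  haveI : ∀ i, IsDomain (Localization.AtPrime (P i)) := fun i =>
    IsLocalization.isDomain_localization (P i).primeCompl_le_nonZeroDivisors
  haveI : ∀ i, IsDiscreteValuationRing (Localization.AtPrime (P i)) := fun i =>
    MTRigid29.Extend.isDiscreteValuationRing_localization (P i) (height_eq_one_of_minimal hh (hPmin i))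
  let v : ∀ i, A → ℕ∞ := fun i f => addVal _ (algebraMap A (Localization.AtPrime (P i)) f)
  have hv : ∀ i f, f ≠ 0 → v i f ≠ ⊤ := fun i f hf e =>
    hf (IsLocalization.injective (Localization.AtPrime (P i)) (P i).primeCompl_le_nonZeroDivisors
      (by rw [addVal_eq_top_iff.1 e, map_zero]))
  refine ⟨S.card, fun f i => (v i f).toNat, fun f g hf hg => funext fun i => ?_, fun f g m hf hg hle => ?_⟩
  · show (v i (f * g)).toNat = (v i f).toNat + (v i g).toNat
    rw [← ENat.toNat_add (hv i f hf) (hv i g hg)]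
    simp only [v, map_mul, addVal_mul]
  · have hg0 : g ≠ 0 := fun e => pow_ne_zero m hh (zero_dvd_iff.1 (e ▸ hg))
    refine dvd_of_forall_minimal hh hg fun Q hQ => ?_
    have hQS : Q ∈ S := (Set.Finite.mem_toFinset _).2 hQ
    obtain ⟨i, hi⟩ : ∃ i, P i = Q := ⟨S.equivFin ⟨Q, hQS⟩, by simp [P]⟩
    subst hi
    have h1 : v i g ≤ v i f := by
      rw [← ENat.natCast_toNat (hv i g hg0), ← ENat.natCast_toNat (hv i f hf)]
      exact_mod_cast hle i
    obtain ⟨c, hc⟩ := addVal_le_iff_dvd.1 h1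
    obtain ⟨a, d, rfl⟩ := IsLocalization.exists_mk'_eq (P i).primeCompl c
    refine ⟨a, d, d.2, IsLocalization.injective (Localization.AtPrime (P i))
      (P i).primeCompl_le_nonZeroDivisors ?_⟩
    rw [map_mul, map_mul, hc, mul_left_comm, IsLocalization.mk'_spec', mul_comm]

/-- A family of divisors of powers of `h` closed under product and exact division is finitely generated up to
constants. -/
theorem exists_generators {k : Type u} [Field k] [IsAlgClosed k] [Algebra k A] [Algebra.FiniteType k A] {h : A}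
    (hh : h ≠ 0) (Φ : Set A) (hdiv : ∀ f ∈ Φ, ∃ m, f ∣ h ^ m) (hone : (1 : A) ∈ Φ)
    (hmul : ∀ f ∈ Φ, ∀ g ∈ Φ, f * g ∈ Φ) (hcancel : ∀ f ∈ Φ, ∀ c, f * c ∈ Φ → c ∈ Φ) :
    ∃ F : Finset A, (↑F : Set A) ⊆ Φ ∧
      Φ ⊆ Submonoid.closure ((↑F : Set A) ∪ algebraMap k A '' {c | c ≠ 0}) := by
  classical
  have h0 : ∀ f ∈ Φ, f ≠ 0 := fun f hf e => by
    obtain ⟨m, hm⟩ := hdiv f hf
    exact pow_ne_zero m hh (zero_dvd_iff.1 (e ▸ hm))
  obtain ⟨s, ν, hν, hνdvd⟩ := exists_order hh
  -- units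
  obtain ⟨ι, _, φ, hφ⟩ := UnitsFG.exists_hom (k := k) A
  let Φ₀ : Subgroup Aˣ :=
    { carrier := {u | (u : A) ∈ Φ}
      one_mem' := by simpa using hone
      mul_mem' := fun {a b} ha hb => by simpa using hmul _ ha _ hb
      inv_mem' := fun {a} ha => hcancel _ ha _ (by simpa using hone) }
  let Hm : Submodule ℤ (ι → ℤ) := AddSubgroup.toIntSubmodule (Subgroup.toAddSubgroup' (Φ₀.map φ))
  obtain ⟨T, hT⟩ : Hm.FG := IsNoetherian.noetherian _
  have hTmem : ∀ t ∈ T, ∃ u ∈ Φ₀, φ u = Multiplicative.ofAdd t := fun t ht => by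
    have : t ∈ Hm := hT ▸ Submodule.subset_span ht
    exact Subgroup.mem_map.1 this
  choose! w hw hw' using hTmem
  let W : Finset Aˣ := T.image w ∪ T.image fun t => (w t)⁻¹
  -- minimal orders
  let Mn : Set (Fin s → ℕ) := {x | Minimal (fun y => ∃ f ∈ Φ, ν f = y ∧ y ≠ 0) x}
  have hMn : Mn.Finite := IsAntichain.finite_of_partiallyWellOrderedOn (r := (· ≤ ·))
    (setOfPred_minimal_antichain _) (Set.isPWO_of_wellQuasiOrderedLE _)
  have hMnmem : ∀ x ∈ Mn, ∃ f ∈ Φ, ν f = x ∧ x ≠ 0 := fun x hx => hx.1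
  choose! fn hfn hfn' _ using hMnmem
  let F : Finset A := W.image Units.val ∪ hMn.toFinset.image fn
  refine ⟨F, ?_, ?_⟩
  · intro f hf
    simp only [F, W, Finset.coe_union, Finset.coe_image, Set.mem_union, Set.mem_image, Finset.mem_coe,
      Set.Finite.mem_toFinset] at hf
    rcases hf with ⟨u, (⟨t, ht, rfl⟩ | ⟨t, ht, rfl⟩), rfl⟩ | ⟨x, hx, rfl⟩
    · exact hw t ht
    · exact Φ₀.inv_mem (hw t ht)
    · exact hfn x hx
  set M := Submonoid.closure ((↑F : Set A) ∪ algebraMap k A '' {c | c ≠ 0})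
  -- units lie in the monoid
  have hW : ∀ x ∈ Hm, ∃ v : Aˣ, v ∈ Φ₀ ∧ φ v = Multiplicative.ofAdd x ∧ (v : A) ∈ M := fun x hx => by
    rw [← hT] at hx
    have hgen : ∀ u ∈ W, (u : A) ∈ M := fun u hu => Submonoid.subset_closure
      (Or.inl (Finset.mem_coe.2 (Finset.mem_union_left _ (Finset.mem_image_of_mem _ hu))))
    suffices ∃ v : Aˣ, v ∈ Φ₀ ∧ φ v = Multiplicative.ofAdd x ∧ (v : A) ∈ M ∧ ((v⁻¹ : Aˣ) : A) ∈ M by
      obtain ⟨v, h1, h2, h3, -⟩ := this
      exact ⟨v, h1, h2, h3⟩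
    induction hx using Submodule.span_induction with
    | mem t ht =>
      exact ⟨w t, hw t ht, hw' t ht, hgen _ (Finset.mem_union_left _ (Finset.mem_image_of_mem _ ht)),
        hgen _ (Finset.mem_union_right _ (Finset.mem_image_of_mem (fun t => (w t)⁻¹) ht))⟩
    | zero => exact ⟨1, one_mem _, by rw [map_one]; rfl, by simp, by simp⟩
    | add x y _ _ hx hy =>
      obtain ⟨v, h1, h2, h3, h4⟩ := hx
      obtain ⟨v', h1', h2', h3', h4'⟩ := hy
      exact ⟨v * v', mul_mem h1 h1', by rw [map_mul, h2, h2']; rfl, by simpa using mul_mem h3 h3',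
        by simpa [mul_comm] using mul_mem h4 h4'⟩
    | smul c x _ hx =>
      obtain ⟨v, h1, h2, h3, h4⟩ := hx
      refine ⟨v ^ c, Φ₀.zpow_mem h1 c, by rw [map_zpow, h2]; rfl, ?_, ?_⟩ <;>
        rcases c with c | c <;> simp [zpow_negSucc, h3, h4, pow_mem]
  have hunit : ∀ u : Aˣ, (u : A) ∈ Φ → (u : A) ∈ M := fun u hu => by
    obtain ⟨v, -, hv, hvM⟩ := hW (φ u).toAdd (Subgroup.mem_map.2 ⟨u, hu, rfl⟩)
    obtain ⟨c, hc⟩ := UnitsRos.exists_const (hφ (u * v⁻¹) (by rw [map_mul, map_inv, hv, ofAdd_toAdd, mul_inv_cancel]))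
    have hc0 : c ≠ 0 := fun e => (u * v⁻¹).ne_zero (by rw [← hc, e, map_zero])
    have : (u : A) = algebraMap k A c * v := by rw [hc, ← Units.val_mul, inv_mul_cancel_right]
    rw [this]
    exact mul_mem (Submonoid.subset_closure (Or.inr ⟨c, hc0, rfl⟩)) hvM
  intro f hf
  induction hn : ∑ i, ν f i using Nat.strong_induction_on generalizing f with
  | _ n ih =>
    subst hn
    by_cases hf0 : ν f = 0
    · obtain ⟨m, hm⟩ := hdiv f hf
      have hf1 : f ∣ 1 := hνdvd 1 f m one_ne_zero hm (by rw [hf0]; exact fun i => Nat.zero_le _)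
      have hu : IsUnit f := isUnit_of_dvd_one hf1
      exact hunit hu.unit hf
    · obtain ⟨x, hxle, hx⟩ := exists_minimal_le_of_wellFoundedLT (fun y => ∃ f ∈ Φ, ν f = y ∧ y ≠ 0) (ν f)
        ⟨f, hf, rfl, hf0⟩
      obtain ⟨m, hm⟩ := hdiv (fn x) (hfn x hx)
      obtain ⟨c, hc⟩ := hνdvd f (fn x) m (h0 f hf) hm (by rw [hfn' x hx]; exact hxle)
      subst hc
      have hcΦ : c ∈ Φ := hcancel _ (hfn x hx) c hf
      obtain ⟨-, -, -, hx0⟩ := hx.1
      have hlt : ∑ i, ν c i < ∑ i, ν (fn x * c) i := by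
        rw [hν _ _ (h0 _ (hfn x hx)) (h0 _ hcΦ), hfn' x hx]
        obtain ⟨i, hi⟩ := Function.ne_iff.1 hx0
        exact Finset.sum_lt_sum (fun j _ => Nat.le_add_left _ _)
          ⟨i, Finset.mem_univ _, Nat.lt_add_of_pos_left (Nat.pos_of_ne_zero hi)⟩
      exact mul_mem (Submonoid.subset_closure (Or.inl (Finset.mem_coe.2 (Finset.mem_union_right _
        (Finset.mem_image_of_mem _ (hMn.mem_toFinset.2 hx)))))) (ih _ hlt hcΦ rfl)

end Groth.Agent.UInvFG21
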