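import Groth.Agent.Lib.InvRing21.Quot
import Groth.Agent.Lib.InvRing21.Semi
import Groth.Agent.Lib.BorelFix21.Proper
import Groth.Agent.Lib.UnitsRos.Char
import Mathlib.AlgebraicGeometry.ValuativeCriterion
import Mathlib.RingTheory.Valuation.LocalSubring

/-!
# Semi-invariant functions are integral over any base point free family of the same weight
-/

set_option autoImplicit false
set_option linter.style.haveILetI false
set_option backward.isDefEq.respectTransparency.types false
universe u

open CategoryTheory Limits MonoidalCategory CartesianMonoidalCategory MonObj AlgebraicGeometry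

noncomputable section

namespace Groth.Agent.UInvFG21

open InvRing21

attribute [local instance] InvRing21.gamAlg BorelFix21.ptsTop

variable {k : Type u} [Field k] [IsAlgClosed k] {G B X : Over (Spec (CommRingCat.of k))} [GrpObj G] [GrpObj B]
  [IsAffine G.left] [Smooth G.hom] [IsAffine B.left] [Smooth B.hom] {iB : B ⟶ G} [IsClosedImmersion iB.left]
  {a : AlgGrp.Action G X} {o : 𝟙_ (Over (Spec (CommRingCat.of k))) ⟶ X} {ξ : (VecGrp.pt k k ⟶ B) → k}

omit [GrpObj B] [IsClosedImmersion iB.left] in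
/-- The ratio of two functions of the same weight is invariant under the subgroup. -/
theorem semi_exchange {e f : Γ(G.left, ⊤)} (he : Semi iB ξ e) (hf : Semi iB ξ f) :
    (fst G B).left.appTop f * ((G ◁ iB) ≫ μ[G]).left.appTop e =
      (fst G B).left.appTop e * ((G ◁ iB) ≫ μ[G]).left.appTop f := by
  haveI : IsAffine (G ⊗ B).left := inferInstanceAs (IsAffine (Limits.pullback G.hom B.hom))
  haveI : Smooth (G ⊗ B).hom := inferInstanceAs (Smooth (Limits.pullback.fst G.hom B.hom ≫ G.hom))
  refine ext_val fun w => ?_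
  have hw : w ≫ (G ◁ iB) ≫ μ[G] = (w ≫ fst G B) * ((w ≫ snd G B) ≫ iB) := by
    rw [whisker_mul, MonObj.comp_mul, Category.assoc]
  simp only [map_mul, appTop_val, hw, he _ _, hf _ _]
  ring

set_option maxHeartbeats 2000000 in
/-- Valuation criterion on the complete homogeneous space. -/
theorem mem_valuationSubring (hX : AGF.IsQuotient iB X a o) [IsProper X.hom] {f : Γ(G.left, ⊤)}
    (hf : Semi iB ξ f) {K : Type u} [Field K] [Algebra Γ(G.left, ⊤) K] [IsFractionRing Γ(G.left, ⊤) K]
    (V : ValuationSubring K) (hk : ∀ c : k, algebraMap Γ(G.left, ⊤) K (algebraMap k _ c) ∈ V)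
    (hcov : ∀ y : VecGrp.pt k k ⟶ G, ∃ e, Semi iB ξ e ∧ val y e ≠ 0 ∧ algebraMap Γ(G.left, ⊤) K e ∈ V) :
    algebraMap Γ(G.left, ⊤) K f ∈ V := by
  letI : Algebra k K := ((algebraMap Γ(G.left, ⊤) K).comp (algebraMap k Γ(G.left, ⊤))).toAlgebra
  haveI : IsScalarTower k Γ(G.left, ⊤) K := IsScalarTower.of_algebraMap_eq fun _ => rfl
  letI : Algebra k V := RingHom.toAlgebra (((algebraMap Γ(G.left, ⊤) K).comp (algebraMap k Γ(G.left, ⊤))).codRestrict V hk)
  haveI : IsScalarTower k V K := IsScalarTower.of_algebraMap_eq fun _ => rfl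
  let π := a.orbitMap o
  haveI := IsQuotient.quasiCompact hX
  obtain ⟨hlft, hflat, hsurj, hpb⟩ := id hX
  haveI := hlft
  haveI := hflat
  haveI := hsurj
  haveI : IsLocallyNoetherian X.left := LocallyOfFiniteType.isLocallyNoetherian X.hom
  haveI : LocallyOfFiniteType π.left := by
    haveI : LocallyOfFiniteType (π.left ≫ X.hom) := by rw [Over.w]; infer_instance
    exact locallyOfFiniteType_of_comp π.left X.hom
  -- the generic point and its extension to the valuation ring
  let gp : VecGrp.pt k K ⟶ G := VecGrp.ptMap (IsScalarTower.toAlgHom k Γ(G.left, ⊤) K) ≫ uPt G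
  have hgp : ∀ g, val gp g = algebraMap Γ(G.left, ⊤) K g := fun g => by
    rw [val_ptMap, val_uPt]
    rfl
  have sq : CommSq (gp ≫ π).left (Spec.map (CommRingCat.ofHom (algebraMap V K))) X.hom
      (VecGrp.pt k V).hom := ⟨by
    rw [Over.w (gp ≫ π)]
    show Spec.map (CommRingCat.ofHom (algebraMap k K)) =
      Spec.map (CommRingCat.ofHom (algebraMap V K)) ≫ Spec.map (CommRingCat.ofHom (algebraMap k V))
    rw [← Spec.map_comp, ← CommRingCat.ofHom_comp]
    rfl⟩
  have hval : ValuativeCriterion X.hom := by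
    have h : IsProper X.hom := inferInstance
    rw [IsProper.eq_valuativeCriterion] at h
    exact h.1.1.1
  haveI : CommSq.HasLift sq :=
    hval.existence (ValuativeCommSq.mk (R := V) K (gp ≫ π).left (VecGrp.pt k V).hom sq)
  let ℓ : VecGrp.pt k V ⟶ X := Over.homMk sq.lift sq.fac_right
  let jK : VecGrp.pt k K ⟶ VecGrp.pt k V := VecGrp.ptMap (IsScalarTower.toAlgHom k V K)
  have hjℓ : jK ≫ ℓ = gp ≫ π := Over.OverMorphism.ext sq.fac_left
  -- a semi-invariant nonvanishing over the centre
  obtain ⟨z, hz⟩ := hsurj.surj (ℓ.left (IsLocalRing.closedPoint V))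
  obtain ⟨y, hy⟩ := BorelFix21.exists_pt_mem (G := G) isClosed_closure.isLocallyClosed
    ⟨z, subset_closure (Set.mem_singleton z)⟩
  obtain ⟨e, he, hey, heV⟩ := hcov y
  set Ge := G.left.basicOpen e with hGe
  have hzU : z ∈ Ge := (specializes_iff_mem_closure.2 hy).mem_open Ge.isOpen ((BorelFix21.val_ne_zero_iff y e).1 hey)
  let U : X.left.Opens := ⟨π.left '' (Ge : Set G.left), π.left.isOpenMap _ Ge.isOpen⟩
  have hle : Ge ≤ π.left ⁻¹ᵁ U := fun p hp => ⟨p, hp, rfl⟩
  let πU : Ge.toScheme ⟶ U.toScheme := π.left.resLE U Ge hle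
  haveI : Flat πU := IsZariskiLocalAtSource.resLE hle hflat
  haveI : Surjective πU := ⟨fun p => by
    obtain ⟨q, hq, hqp⟩ := p.2
    refine ⟨⟨q, hq⟩, U.ι.isOpenEmbedding.injective ?_⟩
    have := congrArg (fun m : Ge.toScheme ⟶ X.left => m ⟨q, hq⟩) (Scheme.Hom.resLE_comp_ι π.left hle)
    exact this.trans hqp⟩
  haveI : QuasiCompact πU := by
    haveI : QuasiCompact (πU ≫ U.ι) := by rw [Scheme.Hom.resLE_comp_ι]; infer_instance
    exact QuasiCompact.of_comp πU U.ι
  haveI : EffectiveEpi πU := inferInstance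
  -- the ratio
  let e' := Ge.ι.appTop e
  have heu : IsUnit e' := by
    have hb : Ge.toScheme.basicOpen e' = ⊤ := by
      rw [← Scheme.preimage_basicOpen_top, ← hGe, Scheme.Opens.ι_preimage_self]
    exact Ge.toScheme.toRingedSpace.isUnit_of_isUnit_germ ⊤ e' fun p _ =>
      (Scheme.mem_basicOpen Ge.toScheme e' p trivial).1 (by rw [hb]; trivial)
  let φ : Γ(Ge.toScheme, ⊤) := Ge.ι.appTop f * ↑heu.unit⁻¹
  have hφ : φ * e' = Ge.ι.appTop f := by rw [_root_.mul_assoc, IsUnit.val_inv_mul, _root_.mul_one]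
  have hpb' : IsPullback (fst G B).left ((G ◁ iB) ≫ μ[G]).left π.left π.left := hpb.map (Over.forget _)
  have hdesc : ∀ {Z : Scheme.{u}} (g₁ g₂ : Z ⟶ Ge.toScheme), g₁ ≫ πU = g₂ ≫ πU →
      g₁ ≫ GITQuot.fnS φ = g₂ ≫ GITQuot.fnS φ := by
    intro Z g₁ g₂ hg
    obtain ⟨t, ht1, ht2⟩ := hpb'.exists_lift (g₁ ≫ Ge.ι) (g₂ ≫ Ge.ι) (by
      have := congrArg (· ≫ U.ι) hg
      simpa [πU] using this)
    rw [GITQuot.comp_fnS, GITQuot.comp_fnS]
    congr 1
    have hex := congrArg t.appTop (semi_exchange he hf)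
    simp only [map_mul, ← CommRingCat.comp_apply, ← Scheme.Hom.comp_appTop, ht1, ht2] at hex
    simp only [Scheme.Hom.comp_appTop, CommRingCat.comp_apply] at hex
    have h1 := congrArg g₁.appTop hφ
    have h2 := congrArg g₂.appTop hφ
    rw [map_mul] at h1 h2
    refine ((heu.map g₁.appTop.hom).mul (heu.map g₂.appTop.hom)).mul_right_cancel ?_
    change g₁.appTop φ * (g₁.appTop e' * g₂.appTop e') = g₂.appTop φ * (g₁.appTop e' * g₂.appTop e')
    rw [← _root_.mul_assoc, h1, mul_left_comm, h2]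
    exact hex
  let Q : U.toScheme ⟶ GITQuot.A1 := EffectiveEpi.desc πU (GITQuot.fnS φ) hdesc
  have hQ : πU ≫ Q = GITQuot.fnS φ := EffectiveEpi.fac _ _ _
  -- factorisations
  have hℓU : Set.range ℓ.left ⊆ Set.range U.ι := by
    rintro _ ⟨p, rfl⟩
    rw [Scheme.Opens.range_ι]
    refine (Specializes.map (IsLocalRing.specializes_closedPoint p) ℓ.left.continuous).mem_open U.isOpen ?_
    exact ⟨z, hzU, hz⟩
  have hgpU : Set.range gp.left ⊆ Set.range Ge.ι := by
    rintro _ ⟨p, rfl⟩
    rw [Scheme.Opens.range_ι]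
    have hu : IsUnit (gp.left.appTop e) := by
      have he0 : algebraMap Γ(G.left, ⊤) K e ≠ 0 := fun h0 => hey (by
        rw [IsFractionRing.injective Γ(G.left, ⊤) K (h0.trans (map_zero _).symm), map_zero])
      have h1 := (hgp e).symm ▸ he0.isUnit
      exact (isUnit_map_iff (Scheme.ΓSpecIso (CommRingCat.of K)).commRingCatIsoToRingEquiv _).1 h1
    show p ∈ gp.left ⁻¹ᵁ G.left.basicOpen e
    rw [Scheme.preimage_basicOpen_top, Scheme.basicOpen_of_isUnit _ hu]
    trivial
  let ℓU : Spec (CommRingCat.of V) ⟶ U.toScheme := IsOpenImmersion.lift U.ι ℓ.left hℓU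
  let gpU : Spec (CommRingCat.of K) ⟶ Ge.toScheme := IsOpenImmersion.lift Ge.ι gp.left hgpU
  have hfac : gpU ≫ πU = jK.left ≫ ℓU := by
    rw [← cancel_mono U.ι, Category.assoc, Category.assoc, Scheme.Hom.resLE_comp_ι, IsOpenImmersion.lift_fac,
      ← Category.assoc, IsOpenImmersion.lift_fac]
    exact congrArg CommaMorphism.left hjℓ.symm
  set r := ℓU.appTop (GITQuot.valA1 Q) with hr
  have hr' : gpU.appTop φ = jK.left.appTop r := by
    rw [hr, ← CommRingCat.comp_apply, ← Scheme.Hom.comp_appTop, ← hfac, Scheme.Hom.comp_appTop, CommRingCat.comp_apply,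
      ← GITQuot.valA1_comp, hQ, GITQuot.valA1_fnS]
  have hK : ptHom (k := k) K (gpU.appTop φ) * algebraMap Γ(G.left, ⊤) K e = algebraMap Γ(G.left, ⊤) K f := by
    have h1 := congrArg (fun s => ptHom (k := k) K (gpU.appTop s)) hφ
    simp only [map_mul] at h1
    have h2 : ∀ g, ptHom (k := k) K (gpU.appTop (Ge.ι.appTop g)) = algebraMap Γ(G.left, ⊤) K g := fun g => by
      rw [← CommRingCat.comp_apply, ← Scheme.Hom.comp_appTop, IsOpenImmersion.lift_fac]
      exact hgp g
    rw [h2, h2] at h1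
    exact h1
  have hmem : ptHom (k := k) K (jK.left.appTop r) ∈ V := by
    have h1 : ptHom (k := k) K (jK.left.appTop r) = algebraMap V K (ptHom (k := k) V r) := by
      show (jK.left.appTop ≫ (Scheme.ΓSpecIso (CommRingCat.of K)).hom) r =
        ((Scheme.ΓSpecIso (CommRingCat.of V)).hom ≫ CommRingCat.ofHom (algebraMap V K)) r
      rw [show jK.left = Spec.map (CommRingCat.ofHom (algebraMap V K)) from rfl, Scheme.ΓSpecIso_naturality]
    rw [h1]
    exact (ptHom (k := k) V r).2
  rw [← hK, hr']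
  exact V.mul_mem _ _ hmem heV

/-- Semi-invariants are integral over a subalgebra containing base point free semi-invariants of the same weight. -/
theorem isIntegral_of_cov [ConnectedSpace G.left] (hX : AGF.IsQuotient iB X a o) [IsProper X.hom]
    (S : Subalgebra k Γ(G.left, ⊤)) {f : Γ(G.left, ⊤)} (hf : Semi iB ξ f)
    (hcov : ∀ y : VecGrp.pt k k ⟶ G, ∃ e ∈ S, Semi iB ξ e ∧ val y e ≠ 0) : IsIntegral S f := by
  haveI := UnitsRos.isIntegral_of_group G
  let K := FractionRing Γ(G.left, ⊤)
  let g : S →+* K := (algebraMap Γ(G.left, ⊤) K).comp S.val.toRingHom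
  have hg : Function.Injective g := (IsFractionRing.injective Γ(G.left, ⊤) K).comp Subtype.val_injective
  set s : Set K := Set.range g
  have hmem : algebraMap Γ(G.left, ⊤) K f ∈ (integralClosure (Subring.closure s) K).toSubring := by
    rw [← iInf_valuationSubring_superset, Subring.mem_iInf]
    rintro ⟨V, hV⟩
    refine mem_valuationSubring hX hf V (fun c => hV ⟨algebraMap k S c, rfl⟩) fun y => ?_
    obtain ⟨e, heS, he, hey⟩ := hcov y
    exact ⟨e, he, hey, hV ⟨⟨e, heS⟩, rfl⟩⟩
  have hint : IsIntegral (Subring.closure s) (algebraMap Γ(G.left, ⊤) K f) := hmem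
  have hcl : Subring.closure s = g.range := by
    show Subring.closure (Set.range g) = g.range
    rw [← RingHom.coe_range, Subring.closure_eq]
  let eS : S ≃+* g.range := RingEquiv.ofBijective g.rangeRestrict
    ⟨fun a b h => hg (congrArg Subtype.val h), RingHom.rangeRestrict_surjective g⟩
  let φ : Subring.closure s →+* S := eS.symm.toRingHom.comp (Subring.inclusion hcl.le)
  have h2 : IsIntegral S (algebraMap Γ(G.left, ⊤) K f) := hint.map_of_comp_eq φ (RingHom.id K) (RingHom.ext fun x => by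
    show g (φ x) = (x : K)
    exact congrArg Subtype.val (eS.apply_symm_apply (Subring.inclusion hcl.le x)))
  exact (isIntegral_algebraMap_iff (IsFractionRing.injective Γ(G.left, ⊤) K)).1 h2

end Groth.Agent.UInvFG21
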