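import Groth.Agent.Lib.BigCell21.Cell
import Groth.Agent.Lib.UInvFG21.Divisor
import Groth.Agent.Lib.UInvFG21.Integral
import Groth.Agent.Lib.UInvFG21.Decomp
import Groth.Agent.Lib.AffRep19.FiniteGamma
import Groth.Agent.Lib.RepRing23.IntFin

/-!
# Invariants of a maximal unipotent subgroup are finitely generated
-/

set_option autoImplicit false
set_option linter.style.haveILetI false
set_option backward.isDefEq.respectTransparency.types false
universe u

open CategoryTheory Limits MonoidalCategory CartesianMonoidalCategory MonObj AlgebraicGeometry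

noncomputable section

namespace Groth.Agent.UInvFG21

open InvRing21 TorPts21

attribute [local instance] InvRing21.gamAlg BorelFix21.ptsTop

variable {k : Type u} [Field k] [IsAlgClosed k] {G : Over (Spec (CommRingCat.of k))} [GrpObj G]
  [IsAffine G.left] [Smooth G.hom]

/-- The span of the left translates of a function. -/
def trSpan (f : Γ(G.left, ⊤)) : Submodule k Γ(G.left, ⊤) :=
  Submodule.span k (Set.range fun c : VecGrp.pt k k ⟶ G => (lTr c).left.appTop f)

omit [IsAlgClosed k] [IsAffine G.left] [Smooth G.hom] in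
theorem val_inv_appTop (x : VecGrp.pt k k ⟶ G) (f : Γ(G.left, ⊤)) :
    val x (((𝟙 G)⁻¹ : G ⟶ G).left.appTop f) = val x⁻¹ f := by
  rw [appTop_val, GrpObj.comp_inv, Category.comp_id]

theorem finite_trSpan (f : Γ(G.left, ⊤)) : Module.Finite k (trSpan f) := by
  set ic := ((𝟙 G)⁻¹ : G ⟶ G)
  obtain ⟨W, hWfin, hfW, hW⟩ := exists_stable_span (regular G) {ic.left.appTop f}
  haveI := hWfin
  have hle : trSpan f ≤ W.map (appAlg ic).toLinearMap := Submodule.span_le.2 (by
    rintro _ ⟨c, rfl⟩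
    refine ⟨(rTr c⁻¹).left.appTop (ic.left.appTop f), rTr_mem hW _ (hfW _ (Finset.mem_singleton_self _)),
      ext_val fun x => ?_⟩
    show val x (ic.left.appTop _) = _
    rw [val_inv_appTop, val_rTr, val_inv_appTop, val_lTr, mul_inv_rev, inv_inv, inv_inv])
  exact Submodule.finiteDimensional_of_le hle

theorem lTr_mem_trSpan {f w : Γ(G.left, ⊤)} (hw : w ∈ trSpan f) (c : VecGrp.pt k k ⟶ G) :
    (lTr c).left.appTop w ∈ trSpan f := by
  refine (Submodule.span_le.2 ?_ : trSpan f ≤ (trSpan f).comap (appAlg (lTr c)).toLinearMap) hw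
  rintro _ ⟨c', rfl⟩
  show (lTr c).left.appTop ((lTr c').left.appTop f) ∈ trSpan f
  rw [show (lTr c).left.appTop ((lTr c').left.appTop f) = (lTr (c' * c)).left.appTop f from
    ext_val fun x => by rw [val_lTr, val_lTr, val_lTr, _root_.mul_assoc]]
  exact Submodule.subset_span ⟨_, rfl⟩

variable {B U : Over (Spec (CommRingCat.of k))} [GrpObj B] [GrpObj U] {iB : B ⟶ G} {u : U ⟶ B}

omit [IsAffine G.left] [Smooth G.hom] [GrpObj B] [GrpObj U] [IsAlgClosed k] in
theorem lTr_mem_invSub {f : Γ(G.left, ⊤)} (hf : f ∈ invSub (u ≫ iB)) (c : VecGrp.pt k k ⟶ G) :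
    (lTr c).left.appTop f ∈ invSub (u ≫ iB) := fun x q => by
  rw [val_lTr, val_lTr, ← _root_.mul_assoc c x, hf]

omit [GrpObj B] in
theorem semi_weight_unique {f : Γ(G.left, ⊤)} (hne : f ≠ 0) {ξ ξ' : (VecGrp.pt k k ⟶ B) → k}
    (h : Semi iB ξ f) (h' : Semi iB ξ' f) : ξ = ξ' := funext fun q => by
  obtain ⟨x, hx⟩ := exists_val_ne_zero hne
  exact mul_right_cancel₀ hx ((h x q).symm.trans (h' x q))

omit [GrpObj B] in
theorem semi_weight_ne_zero {f : Γ(G.left, ⊤)} (hne : f ≠ 0) {ξ : (VecGrp.pt k k ⟶ B) → k}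
    (h : Semi iB ξ f) (q : VecGrp.pt k k ⟶ B) : ξ q ≠ 0 := fun h0 => by
  obtain ⟨x, hx⟩ := exists_val_ne_zero hne
  have := h (x * (q ≫ iB)⁻¹) q
  rw [inv_mul_cancel_right, h0, zero_mul] at this
  exact hx this

set_option maxHeartbeats 800000 in
omit [GrpObj B] [GrpObj U] in
/-- Every weight contains an eigenfunction of a connected solvable group acting on the left. -/
theorem exists_left_eigen {D : Over (Spec (CommRingCat.of k))} [GrpObj D] (iD : D ⟶ G) [IsMonHom iD] [Smooth D.hom]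
    [ConnectedSpace D.left] (hD : Red.IsSolvableGrp D) {g : Γ(G.left, ⊤)} {ξ : (VecGrp.pt k k ⟶ B) → k}
    (hne : g ≠ 0) (hg : g ∈ invSub (u ≫ iB)) (hξ : Semi iB ξ g) :
    ∃ φ, φ ≠ 0 ∧ φ ∈ invSub (u ≫ iB) ∧ Semi iB ξ φ ∧
      ∃ δ : (VecGrp.pt k k ⟶ D) → k, ∀ p x, val ((p ≫ iD) * x) φ = δ p * val x φ := by
  haveI := finite_trSpan g
  obtain ⟨N, hN⟩ := hD
  haveI := BorelFix21.preconnectedSpace_pts (G := D)
  set W := trSpan g
  have hgW : g ∈ W := Submodule.subset_span ⟨1, ext_val fun x => by rw [val_lTr, _root_.one_mul x]⟩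
  haveI : Nontrivial W := ⟨⟨g, hgW⟩, 0, fun h => hne (congrArg Subtype.val h)⟩
  let Rep : (VecGrp.pt k k ⟶ D) →* Module.End k W :=
    { toFun := fun d => (appAlg (lTr (d ≫ iD)⁻¹)).toLinearMap.restrict fun w hw => lTr_mem_trSpan hw _
      map_one' := LinearMap.ext fun w => Subtype.ext (ext_val fun x => by
        show val x ((lTr ((1 : VecGrp.pt k k ⟶ D) ≫ iD)⁻¹).left.appTop w.1) = val x w.1
        rw [val_lTr, MonObj.one_comp, inv_one, _root_.one_mul x])
      map_mul' := fun a b => LinearMap.ext fun w => Subtype.ext (ext_val fun x => by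
        show val x ((lTr ((a * b) ≫ iD)⁻¹).left.appTop w.1) =
          val x ((lTr (a ≫ iD)⁻¹).left.appTop ((lTr (b ≫ iD)⁻¹).left.appTop w.1))
        rw [val_lTr, val_lTr, val_lTr, MonObj.mul_comp, mul_inv_rev, _root_.mul_assoc]) }
  have hRep : ∀ d (w : W) x, val x (Rep d w).1 = val ((d ≫ iD)⁻¹ * x) w.1 := fun d w x => val_lTr _ _ _
  haveI : Module.Free k W := Module.Free.of_divisionRing k W
  let ev : (VecGrp.pt k k ⟶ G) → Module.Dual k W := fun x => (val x).toLinearMap ∘ₗ W.subtype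
  have hspan : Submodule.span k (Set.range ev) = ⊤ := Submodule.span_eq_top_of_ne_zero fun z hz => by
    obtain ⟨x, hx⟩ := exists_val_ne_zero (fun h => hz (Subtype.ext h) : (z : Γ(G.left, ⊤)) ≠ 0)
    exact ⟨ev x, ⟨x, rfl⟩, hx⟩
  have hcoef : ∀ (w : W) (φ : Module.Dual k W), ∃ F : Γ(D.left, ⊤), ∀ d, φ (Rep d w) = val d F := fun w φ => by
    have hφ : φ ∈ Submodule.span k (Set.range ev) := hspan ▸ Submodule.mem_top
    induction hφ using Submodule.span_induction with
    | zero => exact ⟨0, fun d => by simp⟩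
    | add φ ψ _ _ h h' =>
      obtain ⟨F, hF⟩ := h
      obtain ⟨F', hF'⟩ := h'
      exact ⟨F + F', fun d => by rw [LinearMap.add_apply, hF, hF', map_add]⟩
    | smul c φ _ h =>
      obtain ⟨F, hF⟩ := h
      exact ⟨c • F, fun d => by rw [LinearMap.smul_apply, hF, map_smul]⟩
    | mem φ h =>
      obtain ⟨x, rfl⟩ := h
      refine ⟨(iD⁻¹ * (toPt D ≫ x)).left.appTop w.1, fun d => ?_⟩
      show val x (Rep d w).1 = _
      rw [hRep, appTop_val, MonObj.comp_mul, GrpObj.comp_inv, ← Category.assoc, comp_toPt, toPt_pt, Category.id_comp]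
  obtain ⟨v, hv, he⟩ := BorelFix21.exists_eigvec (k := k) (V := W) N (hN _) BorelFix21.continuous_mul_left
    BorelFix21.continuous_mul_right BorelFix21.continuous_inv BorelFix21.continuous_commutator Rep
    fun w φ c => by
      obtain ⟨F, hF⟩ := hcoef w φ
      simp only [hF]
      exact BorelFix21.isClosed_val_eq F c
  choose δ hδ using he
  refine ⟨v.1, fun h => hv (Subtype.ext h), ?_, fun x q => ?_, fun p => δ p⁻¹, fun p x => ?_⟩
  · refine (Submodule.span_le.2 ?_ : W ≤ Subalgebra.toSubmodule (invSub (u ≫ iB))) v.2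
    rintro _ ⟨c, rfl⟩
    exact lTr_mem_invSub hg c
  · have : W ≤ LinearMap.ker ((val (x * (q ≫ iB))).toLinearMap - ξ q • (val x).toLinearMap) :=
      Submodule.span_le.2 (by
        rintro _ ⟨c, rfl⟩
        simp [hξ.lTr c x q])
    simpa [sub_eq_zero] using this v.2
  · have := congrArg (fun w : W => val x w.1) (hδ p⁻¹)
    simp only [hRep, SetLike.val_smul, map_smul, smul_eq_mul] at this
    rwa [GrpObj.inv_comp, inv_inv] at this

variable [ConnectedSpace G.left]

set_option maxHeartbeats 1600000 in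
/-- **Invariants of the unipotent radical of a Borel subgroup of a connected group.** -/
theorem fg_invSub (hB : Red.IsBorelOver k iB) (hU : Par.IsUnipotentRadical u) :
    (invSub (u ≫ iB) : Subalgebra k Γ(G.left, ⊤)).FG := by
  classical
  obtain ⟨hm, hcl, hs, hn, hsol, -⟩ := id hB
  haveI := hm
  haveI := hcl
  haveI := hs
  haveI := hn
  haveI : IsAffine B.left := isAffine_of_isAffineHom iB.left
  haveI : IsIntegral G.left := UnitsRos.isIntegral_of_group G
  haveI : Nonempty G.left := ⟨η[G].left (IsLocalRing.closedPoint k)⟩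
  haveI : IsIntegrallyClosed Γ(G.left, ⊤) :=
    AffRep19.isIntegrallyClosed_of_smooth G.hom ⊤ (isAffineOpen_top _) Set.univ_nonempty
  haveI : Algebra.FiniteType k Γ(G.left, ⊤) := finiteType_gam G
  haveI : IsNoetherianRing Γ(G.left, ⊤) := Algebra.FiniteType.isNoetherianRing k _
  obtain ⟨D, _, iD, h, hDm, -, hDs, hDn, hDsol, h1, hcell⟩ := BigCell21.exists_open_cell hB
  haveI := hDm
  haveI := hDs
  haveI := hDn
  have hh : h ≠ 0 := fun e => h1 (by rw [e, map_zero])
  haveI : IsClosedImmersion (𝟙 B ≫ iB).left := by rw [Category.id_comp]; infer_instance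
  obtain ⟨X, a, o, hX, -, -⟩ := GrassAct21.exists_quotient_affine iB
  haveI : IsProper X.hom := BorelFix21.isProper_of_borel_le hX (𝟙 B) (by rw [Category.id_comp]; exact hB)
  let Φ : Set Γ(G.left, ⊤) := {φ | φ ≠ 0 ∧ φ ∈ invSub (u ≫ iB) ∧ (∃ ξ, Semi iB ξ φ) ∧
    ∃ δ : (VecGrp.pt k k ⟶ D) → k, ∀ p x, val ((p ≫ iD) * x) φ = δ p * val x φ}
  have hdiv : ∀ f ∈ Φ, ∃ m, f ∣ h ^ m := by
    rintro f ⟨hf0, -, ⟨ξ, hξ⟩, δ, hδ⟩
    obtain ⟨x₁, hx₁⟩ := exists_val_ne_zero (mul_ne_zero hf0 hh)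
    rw [map_mul] at hx₁
    have hval : ∀ x : VecGrp.pt k k ⟶ G, val x h ≠ 0 → val x f ≠ 0 := by
      intro x hx
      obtain ⟨p₁, q₁, he₁⟩ := hcell x₁ (right_ne_zero_of_mul hx₁)
      obtain ⟨p, q, he⟩ := hcell x hx
      have hone : val (1 : VecGrp.pt k k ⟶ G) f ≠ 0 := fun h0 => left_ne_zero_of_mul hx₁ (by
        rw [he₁, hδ, ← _root_.one_mul (q₁ ≫ iB), hξ, h0, mul_zero, mul_zero])
      rw [he, hδ, ← _root_.one_mul (q ≫ iB), hξ]
      refine mul_ne_zero (fun h0 => ?_) (mul_ne_zero (semi_weight_ne_zero hf0 hξ q) hone)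
      have := hδ p ((p ≫ iD)⁻¹)
      rw [mul_inv_cancel, h0, zero_mul] at this
      exact hone this
    have hrad : h ∈ (Ideal.span ({f} : Set Γ(G.left, ⊤))).radical := by
      by_contra hnot
      set I := (Ideal.span ({f} : Set Γ(G.left, ⊤))).radical
      haveI : IsReduced (Γ(G.left, ⊤) ⧸ I) :=
        (Ideal.isRadical_iff_quotient_reduced I).1 (Ideal.radical_isRadical _)
      obtain ⟨χ, hχ⟩ := UnitsRos.exists_point_ne_zero (k := k) (b := Ideal.Quotient.mk I h)
        (fun e => hnot (Ideal.Quotient.eq_zero_iff_mem.1 e))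
      let χ' : Γ(G.left, ⊤) →ₐ[k] k := χ.comp (Ideal.Quotient.mkₐ k I)
      have hy : ∀ g, val (VecGrp.ptMap χ' ≫ uPt G) g = χ' g := fun g => by rw [val_ptMap, val_uPt]; rfl
      refine hval (VecGrp.ptMap χ' ≫ uPt G) (by rw [hy]; exact hχ) ?_
      rw [hy]
      show χ (Ideal.Quotient.mk I f) = 0
      rw [Ideal.Quotient.eq_zero_iff_mem.2 (Ideal.le_radical (Ideal.mem_span_singleton_self f)), map_zero]
    obtain ⟨m, hm'⟩ := hrad
    exact ⟨m, Ideal.mem_span_singleton.1 hm'⟩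
  have hcancel : ∀ f ∈ Φ, ∀ c, f * c ∈ Φ → c ∈ Φ := by
    rintro f ⟨hf0, hfU, ⟨ξ, hξ⟩, δ, hδ⟩ c ⟨hfc0, hfcU, ⟨ζ, hζ⟩, ε, hε⟩
    have hkey : ∀ (T : G ⟶ G) (s t : k), T.left.appTop f = s • f → s ≠ 0 → T.left.appTop (f * c) = t • (f * c) →
        T.left.appTop c = (t / s) • c := fun T s t hs hs0 ht => by
      refine mul_left_cancel₀ hf0 (smul_right_injective _ hs0 ?_)
      show s • (f * T.left.appTop c) = s • (f * ((t / s) • c))
      rw [← smul_mul_assoc, ← hs, ← map_mul, ht, mul_smul_comm, smul_smul, mul_div_cancel₀ _ hs0]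
    refine ⟨right_ne_zero_of_mul hfc0, fun x q => ?_, ⟨fun q => ζ q / ξ q, fun x q => ?_⟩,
      fun p => ε p / δ p, fun p x => ?_⟩
    · have e := hkey (rTr (q ≫ u ≫ iB)) 1 1 (ext_val fun y => by rw [val_rTr, hfU, one_smul]) one_ne_zero
        (ext_val fun y => by rw [val_rTr, hfcU, one_smul])
      rw [div_one, one_smul] at e
      rw [← val_rTr, e]
    · have e := hkey (rTr (q ≫ iB)) (ξ q) (ζ q) (ext_val fun y => by rw [val_rTr, hξ, map_smul, smul_eq_mul])
        (semi_weight_ne_zero hf0 hξ q) (ext_val fun y => by rw [val_rTr, hζ, map_smul, smul_eq_mul])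
      rw [← val_rTr, e, map_smul, smul_eq_mul]
    · have hδ0 : δ p ≠ 0 := fun h0 => by
        obtain ⟨y, hy⟩ := exists_val_ne_zero hf0
        have := hδ p ((p ≫ iD)⁻¹ * y)
        rw [mul_inv_cancel_left, h0, zero_mul] at this
        exact hy this
      have e := hkey (lTr (p ≫ iD)) (δ p) (ε p) (ext_val fun y => by rw [val_lTr, hδ, map_smul, smul_eq_mul])
        hδ0 (ext_val fun y => by rw [val_lTr, hε, map_smul, smul_eq_mul])
      rw [← val_lTr, e, map_smul, smul_eq_mul]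
  have hmul : ∀ f ∈ Φ, ∀ g ∈ Φ, f * g ∈ Φ := by
    rintro f ⟨hf0, hfU, ⟨ξ, hξ⟩, δ, hδ⟩ g ⟨hg0, hgU, ⟨ζ, hζ⟩, ε, hε⟩
    exact ⟨mul_ne_zero hf0 hg0, mul_mem hfU hgU, ⟨_, hξ.mul hζ⟩, fun p => δ p * ε p, fun p x => by
      rw [map_mul, map_mul, hδ, hε]; ring⟩
  obtain ⟨F, hF, hΦ⟩ := exists_generators (k := k) hh Φ hdiv
    ⟨one_ne_zero, one_mem _, ⟨1, fun x q => by simp⟩, 1, fun p x => by simp⟩ hmul hcancel
  -- the finitely generated subalgebra
  let Tset : Set Γ(G.left, ⊤) := {g | ∃ f ∈ F, ∃ c : VecGrp.pt k k ⟶ G, (lTr c).left.appTop f = g}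
  let S : Subalgebra k Γ(G.left, ⊤) := Algebra.adjoin k Tset
  have hSU : S ≤ invSub (u ≫ iB) := Algebra.adjoin_le (by
    rintro _ ⟨f, hf, c, rfl⟩
    exact lTr_mem_invSub (hF hf).2.1 c)
  have hSfg : S.FG := by
    have hfin : Module.Finite k (Submodule.span k Tset) := by
      haveI : ∀ f : F, Module.Finite k (trSpan f.1) := fun f => finite_trSpan f.1
      refine Submodule.finiteDimensional_of_le (S₂ := ⨆ f : F, trSpan f.1) (Submodule.span_le.2 ?_)
      rintro _ ⟨f, hf, c, rfl⟩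
      exact Submodule.mem_iSup_of_mem (⟨f, hf⟩ : F) (Submodule.subset_span ⟨c, rfl⟩)
    obtain ⟨t, ht⟩ := Module.Finite.iff_fg.1 hfin
    exact ⟨t, by rw [← Algebra.adjoin_span, ht, Algebra.adjoin_span]⟩
  let P : Γ(G.left, ⊤) → Prop := fun g => g ≠ 0 ∧ ∃ ξ, Semi iB ξ g ∧
    ∀ y : VecGrp.pt k k ⟶ G, ∃ e ∈ S, Semi iB ξ e ∧ val y e ≠ 0
  have hP' : ∀ g ∈ Submonoid.closure ((↑F : Set Γ(G.left, ⊤)) ∪ algebraMap k _ '' {c | c ≠ 0}), P g := fun g hg => by
    induction hg using Submonoid.closure_induction with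
    | mem f hf =>
      rcases hf with hf | ⟨c, hc, rfl⟩
      · obtain ⟨hf0, -, ⟨ξ, hξ⟩, -⟩ := hF hf
        refine ⟨hf0, ξ, hξ, fun y => ?_⟩
        obtain ⟨x₀, hx₀⟩ := exists_val_ne_zero hf0
        refine ⟨_, Algebra.subset_adjoin ⟨f, hf, x₀ * y⁻¹, rfl⟩, hξ.lTr _, ?_⟩
        rwa [val_lTr, inv_mul_cancel_right]
      · exact ⟨(map_ne_zero_iff _ (algebraMap k Γ(G.left, ⊤)).injective).2 hc, fun _ => 1, fun x q => by simp,
          fun y => ⟨algebraMap k _ c, S.algebraMap_mem c, fun x q => by simp, by rw [AlgHom.commutes]; exact hc⟩⟩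
    | one => exact ⟨one_ne_zero, fun _ => 1, fun x q => by simp, fun y => ⟨1, one_mem S, fun x q => by simp, by simp⟩⟩
    | mul f g _ _ hf hg =>
      obtain ⟨hf0, ξ, hξ, he⟩ := hf
      obtain ⟨hg0, ζ, hζ, he'⟩ := hg
      refine ⟨mul_ne_zero hf0 hg0, _, hξ.mul hζ, fun y => ?_⟩
      obtain ⟨e, heS, heξ, hey⟩ := he y
      obtain ⟨e', heS', heζ, hey'⟩ := he' y
      exact ⟨e * e', mul_mem heS heS', heξ.mul heζ, by rw [map_mul]; exact mul_ne_zero hey hey'⟩
  have hP : ∀ g ∈ Φ, P g := fun g hg => hP' g (hΦ hg)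
  have hint : ∀ f ∈ invSub (u ≫ iB), IsIntegral S f := fun f hf => by
    have hsp := mem_span_semi (iB := iB) hsol hU hf
    refine Submodule.span_induction (p := fun f _ => IsIntegral S f) ?_ isIntegral_zero
      (fun _ _ _ _ => IsIntegral.add) (fun c f _ hf => ?_) hsp
    · rintro g ⟨hg, ξ, hξ⟩
      by_cases hg0 : g = 0
      · rw [hg0]; exact isIntegral_zero
      obtain ⟨φ, hφ0, hφU, hφξ, hφδ⟩ := exists_left_eigen iD hDsol hg0 hg hξ
      obtain ⟨-, ξ', hξ', hcov⟩ := hP φ ⟨hφ0, hφU, ⟨ξ, hφξ⟩, hφδ⟩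
      rw [semi_weight_unique hφ0 hξ' hφξ] at hcov
      exact isIntegral_of_cov hX S hξ hcov
    · rw [Algebra.smul_def, IsScalarTower.algebraMap_apply k S Γ(G.left, ⊤)]
      exact isIntegral_algebraMap.mul hf
  haveI : Algebra.FiniteType k S := (Subalgebra.fg_iff_finiteType S).1 hSfg
  haveI : IsNoetherianRing S := Algebra.FiniteType.isNoetherianRing k S
  haveI := RepRing23.finite_integralClosure_domain k S Γ(G.left, ⊤)
  let R' : Submodule S Γ(G.left, ⊤) :=
    { carrier := invSub (u ≫ iB)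
      add_mem' := fun ha hb => add_mem ha hb
      zero_mem' := zero_mem _
      smul_mem' := fun s x hx => mul_mem (hSU s.2) hx }
  have hR'fg : R'.FG := by
    haveI : IsNoetherian S (Subalgebra.toSubmodule (integralClosure S Γ(G.left, ⊤))) :=
      isNoetherian_of_isNoetherianRing_of_finite S (integralClosure S Γ(G.left, ⊤))
    exact Submodule.FG.of_le_of_isNoetherian (T := Subalgebra.toSubmodule (integralClosure S Γ(G.left, ⊤))) (fun x hx => hint x hx : R' ≤ Subalgebra.toSubmodule (integralClosure S Γ(G.left, ⊤)))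
  obtain ⟨t, ht⟩ := hR'fg
  obtain ⟨t₀, ht₀⟩ := hSfg
  refine ⟨t₀ ∪ t, le_antisymm (Algebra.adjoin_le ?_) ?_⟩
  · rw [Finset.coe_union]
    refine Set.union_subset (fun x hx => hSU (ht₀ ▸ Algebra.subset_adjoin hx)) fun x hx => ?_
    exact (ht ▸ Submodule.subset_span hx : x ∈ R')
  · intro x hx
    have hxR : x ∈ Submodule.span S (↑t : Set Γ(G.left, ⊤)) := ht.symm ▸ hx
    clear hx
    induction hxR using Submodule.span_induction with
    | mem x hx => exact Algebra.subset_adjoin (Finset.mem_coe.2 (Finset.mem_union_right _ hx))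
    | zero => exact zero_mem _
    | add x y _ _ hx hy => exact add_mem hx hy
    | smul s x _ hx =>
      refine mul_mem ?_ hx
      have h2 : (s : Γ(G.left, ⊤)) ∈ Algebra.adjoin k (↑t₀ : Set Γ(G.left, ⊤)) := ht₀.symm ▸ s.2
      exact Algebra.adjoin_mono (by rw [Finset.coe_union]; exact Set.subset_union_left) h2

end Groth.Agent.UInvFG21
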