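import Groth.Agent.Lib.UInvFG21.Main

/-!
# Invariants of maximal unipotent subgroups of disconnected groups
-/

set_option autoImplicit false
set_option linter.style.haveILetI false
set_option backward.isDefEq.respectTransparency.types false
universe u

open CategoryTheory Limits MonoidalCategory CartesianMonoidalCategory MonObj AlgebraicGeometry

noncomputable section

namespace Groth.Agent.UInvFG21

open InvRing21 TorPts21

attribute [local instance] InvRing21.gamAlg BorelFix21.ptsTop

variable {k : Type u} [Field k] [IsAlgClosed k] {G : Over (Spec (CommRingCat.of k))} [GrpObj G]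
  [IsAffine G.left] [Smooth G.hom] {B U : Over (Spec (CommRingCat.of k))} [GrpObj B] [GrpObj U] {iB : B ⟶ G} {u : U ⟶ B}

/-- A Borel subgroup of the group is one of its identity component. -/
theorem exists_borel_component (hB : Red.IsBorelOver k iB) :
    ∃ (G₀ : Over (Spec (CommRingCat.of k))) (_ : GrpObj G₀) (j : G₀ ⟶ G) (l : B ⟶ G₀), IsMonHom j ∧
      IsOpenImmersion j.left ∧ IsClosedImmersion j.left ∧ IsAffine G₀.left ∧ Smooth G₀.hom ∧
      ConnectedSpace G₀.left ∧ Red.IsBorelOver k l ∧ l ≫ j = iB := by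
  obtain ⟨hm, hcl, hs, hn, hsol, hmax⟩ := id hB
  haveI := hm
  haveI := hcl
  haveI := hn
  obtain ⟨G₀, _, j, hj, hjo, hconn⟩ := BorelFix21.exists_identity_component G
  haveI := hj
  haveI := hjo
  haveI := isClosedImmersion_of_open_subgroup j
  obtain ⟨l, hl⟩ := BorelFix21.exists_lift_component j (isClosed_range j) iB
  haveI : Mono j := Over.mono_of_mono_left j
  haveI : IsMonHom l := BorelFix21.isMonHom_of_comp j l (hl ▸ hm)
  haveI : IsClosedImmersion (l.left ≫ j.left) := by rw [← Over.comp_left, hl]; exact hcl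
  haveI : IsClosedImmersion l.left := IsClosedImmersion.of_comp l.left j.left
  refine ⟨G₀, inferInstance, j, l, hj, hjo, inferInstance, isAffine_of_isAffineHom j.left,
    smooth_of_openImmersion j, hconn, ⟨inferInstance, inferInstance, hs, hn, hsol, ?_⟩, hl⟩
  intro B' _ i' _ f hi' hs' hn' hsol' hf
  haveI := hi'
  exact hmax B' (i' ≫ j) f (by rw [Over.comp_left]; infer_instance) hs' hn' hsol'
    (by rw [← Category.assoc, hf, hl])

set_option maxHeartbeats 800000 in
/-- **Invariants of a maximal unipotent subgroup of an affine group are finitely generated.** -/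
theorem fg_invSub_general (hB : Red.IsBorelOver k iB) (hU : Par.IsUnipotentRadical u) :
    (invSub (u ≫ iB) : Subalgebra k Γ(G.left, ⊤)).FG := by
  classical
  obtain ⟨G₀, _, j, l, hj, hjo, hjc, hG₀a, hG₀s, hG₀c, hl₀, hl⟩ := exists_borel_component hB
  haveI := hj
  haveI := hjo
  haveI := hjc
  haveI := hG₀a
  haveI := hG₀s
  haveI := hG₀c
  haveI : Mono j := Over.mono_of_mono_left j
  obtain ⟨t, ht⟩ := fg_invSub hl₀ hU
  obtain ⟨e, he⟩ := exists_indicator j (isClosed_range j)
  have hsurj : Function.Surjective j.left.appTop := (IsClosedImmersion.isAffine_surjective_of_isAffine j.left).2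
  choose ext hext using hsurj
  let E : (VecGrp.pt k k ⟶ G) → Γ(G₀.left, ⊤) → Γ(G.left, ⊤) := fun c g => (lTr c).left.appTop (e * ext g)
  have hE1 : ∀ c g (x : VecGrp.pt k k ⟶ G) y, y ≫ j = c * x → val x (E c g) = val y g := fun c g x y hy => by
    show val x ((lTr c).left.appTop (e * ext g)) = _
    rw [val_lTr, map_mul, (he _).1 ⟨y, hy⟩, _root_.one_mul, ← hy, ← appTop_val, hext]
  have hE0 : ∀ c g (x : VecGrp.pt k k ⟶ G), (¬ ∃ y, y ≫ j = c * x) → val x (E c g) = 0 := fun c g x hy => by
    show val x ((lTr c).left.appTop (e * ext g)) = _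
    rw [val_lTr, map_mul, (he _).2 hy, zero_mul]
  have hqU : ∀ q : VecGrp.pt k k ⟶ U, q ≫ u ≫ iB = (q ≫ u ≫ l) ≫ j := fun q => by
    rw [← hl]; simp only [Category.assoc]
  have hEU : ∀ c g, g ∈ invSub (u ≫ l) → E c g ∈ invSub (u ≫ iB) := fun c g hg x q => by
    by_cases hy : ∃ y, y ≫ j = c * x
    · obtain ⟨y, hy⟩ := hy
      rw [hE1 c g x y hy, hE1 c g _ (y * (q ≫ u ≫ l)) (by rw [MonObj.mul_comp, hy, hqU, _root_.mul_assoc])]
      exact hg y q
    · rw [hE0 c g x hy, hE0 c g _ fun ⟨y, hy'⟩ => hy ⟨y * (q ≫ u ≫ l)⁻¹, by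
        rw [MonObj.mul_comp, GrpObj.inv_comp, hy', hqU, ← _root_.mul_assoc c x, mul_inv_cancel_right]⟩]
  have hrest : ∀ c f, f ∈ invSub (u ≫ iB) → j.left.appTop ((lTr c).left.appTop f) ∈ invSub (u ≫ l) :=
    fun c f hf y q => by
      rw [appTop_val _ j, val_lTr, appTop_val _ j, val_lTr, MonObj.mul_comp, ← hqU, ← _root_.mul_assoc]
      exact hf _ q
  obtain ⟨s, hs⟩ := exists_finite_cosets j
  let T : Finset Γ(G.left, ⊤) := (s ×ˢ insert 1 t).image fun p => E p.1 p.2
  refine ⟨T, le_antisymm (Algebra.adjoin_le ?_) fun f hf => ?_⟩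
  · intro x hx
    obtain ⟨⟨c, g⟩, hcg, rfl⟩ := Finset.mem_image.1 (Finset.mem_coe.1 hx)
    refine hEU c g ?_
    rcases Finset.mem_insert.1 (Finset.mem_product.1 hcg).2 with h | h
    · dsimp only at h
      rw [h]
      exact one_mem _
    · exact ht ▸ Algebra.subset_adjoin h
  have hmem : ∀ c ∈ s, ∀ g ∈ invSub (u ≫ l), E c g ∈ Algebra.adjoin k (↑T : Set Γ(G.left, ⊤)) := fun c hc g hg => by
    rw [← ht] at hg
    have h1 : E c 1 ∈ Algebra.adjoin k (↑T : Set Γ(G.left, ⊤)) :=
      Algebra.subset_adjoin (Finset.mem_image.2 ⟨(c, 1), Finset.mem_product.2 ⟨hc, Finset.mem_insert_self _ _⟩, rfl⟩)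
    have hcase : ∀ g g', (∀ x y, y ≫ j = c * x → val x g' = val y g) →
        (∀ x, (¬ ∃ y, y ≫ j = c * x) → val x g' = 0) → E c g = g' := fun g g' ha hb => ext_val fun x => by
      by_cases hy : ∃ y, y ≫ j = c * x
      · obtain ⟨y, hy⟩ := hy; rw [hE1 c g x y hy, ha x y hy]
      · rw [hE0 c g x hy, hb x hy]
    induction hg using Algebra.adjoin_induction with
    | mem g hg =>
      exact Algebra.subset_adjoin (Finset.mem_image.2 ⟨(c, g), Finset.mem_product.2
        ⟨hc, Finset.mem_insert_of_mem hg⟩, rfl⟩)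
    | algebraMap r =>
      rw [hcase _ (r • E c 1) (fun x y hy => by rw [map_smul, hE1 c 1 x y hy, map_one, AlgHom.commutes]; simp)
        fun x hy => by rw [map_smul, hE0 c 1 x hy, smul_zero]]
      exact Subalgebra.smul_mem _ h1 r
    | add a b _ _ ha hb =>
      rw [hcase _ (E c a + E c b) (fun x y hy => by rw [map_add, map_add, hE1 c a x y hy, hE1 c b x y hy])
        fun x hy => by rw [map_add, hE0 c a x hy, hE0 c b x hy, add_zero]]
      exact add_mem ha hb
    | mul a b _ _ ha hb =>
      rw [hcase _ (E c a * E c b) (fun x y hy => by rw [map_mul, map_mul, hE1 c a x y hy, hE1 c b x y hy])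
        fun x hy => by rw [map_mul, hE0 c a x hy, zero_mul]]
      exact mul_mem ha hb
  suffices h : ∀ (s' : Finset (VecGrp.pt k k ⟶ G)), s' ⊆ s → ∀ f ∈ invSub (u ≫ iB),
      (∀ x, (∀ c ∈ s', ¬ ∃ y, y ≫ j = c * x) → val x f = 0) → f ∈ Algebra.adjoin k (↑T : Set Γ(G.left, ⊤)) from
    h s subset_rfl f hf fun x hx => by
      obtain ⟨c, hc, hy⟩ := hs x
      exact absurd hy (hx c hc)
  intro s'
  induction s' using Finset.induction_on with
  | empty =>
    intro _ f _ hf0
    rw [show f = 0 from ext_val fun x => by rw [hf0 x (by simp), map_zero]]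
    exact zero_mem _
  | insert c s' _ ih =>
    intro hsub f hfU hf0
    set g := j.left.appTop ((lTr c⁻¹).left.appTop f)
    have hc : c ∈ s := hsub (Finset.mem_insert_self _ _)
    have hEc := hmem c hc g (hrest _ _ hfU)
    have hrec := ih ((Finset.subset_insert _ _).trans hsub) (f - E c g)
      (sub_mem hfU (hEU c g (hrest _ _ hfU))) fun x hx => by
        rw [map_sub]
        by_cases hy : ∃ y, y ≫ j = c * x
        · obtain ⟨y, hy⟩ := hy
          rw [hE1 c g x y hy, appTop_val, val_lTr, hy, inv_mul_cancel_left, sub_self]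
        · rw [hE0 c g x hy, hf0 x fun c' hc' => ?_, sub_zero]
          rcases Finset.mem_insert.1 hc' with rfl | h
          · exact hy
          · exact hx c' h
    simpa using add_mem hrec hEc

end Groth.Agent.UInvFG21
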