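import Groth.Agent.Lib.TorPts21.UnipBorel
import Groth.Agent.Lib.BorelFix21.BorelConj
import Groth.Agent.Lib.TorPts21.UnipRadical

/-!
# The unipotent radical of a Borel subgroup is maximal among connected unipotent subgroups
-/

set_option autoImplicit false
set_option linter.style.haveILetI false
set_option backward.isDefEq.respectTransparency.types false
universe u

open CategoryTheory Limits MonoidalCategory CartesianMonoidalCategory MonObj AlgebraicGeometry

noncomputable section

namespace Groth.Agent.UInvFG21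

open TorPts21

attribute [local instance] InvRing21.gamAlg BorelFix21.ptsTop

variable {k : Type u} [Field k] [IsAlgClosed k] {G : Over (Spec (CommRingCat.of k))} [GrpObj G]
  [IsAffine G.left] [Smooth G.hom] [ConnectedSpace G.left]

/-- A connected subgroup without subtori containing a maximal unipotent subgroup equals it on points. -/
theorem exists_pt_of_contains {B U : Over (Spec (CommRingCat.of k))} [GrpObj B] [GrpObj U] {iB : B ⟶ G} {u : U ⟶ B}
    (hB : Red.IsBorelOver k iB) (hU : Par.IsUnipotentRadical u) {V : Over (Spec (CommRingCat.of k))} [GrpObj V]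
    (v : V ⟶ G) [IsMonHom v] [IsClosedImmersion v.left] [Smooth V.hom] [ConnectedSpace V.left]
    (nV : Red.HasNoSubtorus k V) (f : U ⟶ V) (hf : f ≫ v = u ≫ iB) (y : VecGrp.pt k k ⟶ V) :
    ∃ q : VecGrp.pt k k ⟶ U, q ≫ u ≫ iB = y ≫ v := by
  obtain ⟨hm, hc, hs, hn, hsol, -⟩ := id hB
  haveI := hm
  haveI := hc
  haveI := hs
  haveI := hn
  haveI : IsAffine B.left := isAffine_of_isAffineHom iB.left
  obtain ⟨hum, huc, -, hus, -, hun, -, humax⟩ := (isUnipotentRadical_iff u).1 hU
  haveI := hum
  haveI := huc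
  haveI := hus
  haveI := hun
  obtain ⟨B', _, iB', V', _, v', fV, hB', hV', hfV, -⟩ := exists_borel_unipotentRadical_ge v nV
  obtain ⟨hm', hc', hs', hn', -, -⟩ := id hB'
  haveI := hm'
  haveI := hc'
  obtain ⟨hvm', hvc', -, hvs', -, hvn', hvns', -⟩ := (isUnipotentRadical_iff v').1 hV'
  haveI := hvm'
  haveI := hvc'
  haveI := hvs'
  haveI := hvn'
  obtain ⟨g, φ, hφ⟩ := BorelFix21.exists_conjBy iB iB' hB hB'
  haveI := isMonHom_conjBy g iB
  haveI : Mono iB' := Over.mono_of_mono_left iB'
  haveI : IsMonHom φ.hom := BorelFix21.isMonHom_of_comp iB' φ.hom (hφ ▸ ‹IsMonHom (AGF.conjBy g iB)›)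
  obtain ⟨U₁, _, u₁, hU₁, hall⟩ := exists_unipotentRadical B hsol
  haveI : IsIso φ.inv.left := inferInstanceAs (IsIso ((Over.forget _).map φ.inv))
  haveI : IsClosedImmersion (v' ≫ φ.inv).left := by rw [Over.comp_left]; infer_instance
  obtain ⟨h₁, hh₁⟩ := hall V' (v' ≫ φ.inv) inferInstance inferInstance inferInstance hvns'
  obtain ⟨-, huc₁, hunorm₁, hus₁, huq₁, hun₁, huns₁, -⟩ := (isUnipotentRadical_iff u₁).1 hU₁
  haveI : IsMonHom u₁ := ((isUnipotentRadical_iff u₁).1 hU₁).1
  obtain ⟨l, hl⟩ := humax U₁ u₁ huc₁ hunorm₁ hus₁ huq₁ hun₁ huns₁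
  let h : V' ⟶ U := h₁ ≫ l
  have hh : h ≫ u = v' ≫ φ.inv := by rw [Category.assoc, hl, hh₁]
  haveI : IsClosedImmersion (h.left ≫ u.left) := by rw [← Over.comp_left, hh]; infer_instance
  haveI : IsClosedImmersion h.left := IsClosedImmersion.of_comp h.left u.left
  haveI : IsClosedImmersion (fV.left ≫ (v' ≫ iB').left) := by rw [← Over.comp_left, hfV]; infer_instance
  haveI : IsClosedImmersion (v' ≫ iB').left := by rw [Over.comp_left]; infer_instance
  haveI : IsClosedImmersion fV.left := IsClosedImmersion.of_comp fV.left (v' ≫ iB').left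
  haveI : IsClosedImmersion (f.left ≫ v.left) := by rw [← Over.comp_left, hf, Over.comp_left]; infer_instance
  haveI : IsClosedImmersion f.left := IsClosedImmersion.of_comp f.left v.left
  haveI : IsAffine U.left := isAffine_of_isAffineHom u.left
  haveI : IsReduced U.left := OrbitTop19.isReduced_of_smooth U.hom
  haveI : IsLocallyNoetherian U.left := LocallyOfFiniteType.isLocallyNoetherian U.hom
  haveI : IsNoetherian U.left := ⟨⟩
  haveI : IsClosedImmersion (f ≫ fV ≫ h).left := by rw [Over.comp_left, Over.comp_left]; infer_instance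
  haveI : IsIso ((Over.forget _).map (f ≫ fV ≫ h)) := BorelFix21.isIso_of_endo (f ≫ fV ≫ h).left
  haveI : IsIso (f ≫ fV ≫ h) := isIso_of_reflects_iso _ (Over.forget _)
  haveI : Mono fV := Over.mono_of_mono_left fV
  haveI : Mono h := Over.mono_of_mono_left h
  refine ⟨(y ≫ fV ≫ h) ≫ inv (f ≫ fV ≫ h), ?_⟩
  have e : ((y ≫ fV ≫ h) ≫ inv (f ≫ fV ≫ h)) ≫ f = y := by
    rw [← cancel_mono (fV ≫ h)]
    simp
  conv_rhs => rw [← e]
  simp only [Category.assoc, hf]

end Groth.Agent.UInvFG21
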