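import Groth.Agent.Lib.UInvFG21.General
import Groth.Agent.Lib.UInvFG21.MaxUnip
import Groth.Agent.Lib.UInvFG21.Torus
import Groth.Agent.Lib.TorPts21.Chevalley
import Mathlib.RingTheory.Adjoin.Tower
import Mathlib.Algebra.Polynomial.Lifts

/-!
# Invariants of a subgroup containing a maximal unipotent subgroup
-/

set_option autoImplicit false
set_option linter.style.haveILetI false
set_option backward.isDefEq.respectTransparency.types false
universe u

open CategoryTheory Limits MonoidalCategory CartesianMonoidalCategory MonObj AlgebraicGeometry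
open scoped TensorProduct

noncomputable section

namespace Groth.Agent.UInvFG21

open InvRing21 TorPts21 MatGrp21

attribute [local instance] InvRing21.gamAlg BorelFix21.ptsTop

variable {k : Type u} [Field k] [IsAlgClosed k] {G : Over (Spec (CommRingCat.of k))} [GrpObj G]
  [IsAffine G.left]

/-- A vector fixed by a Borel subgroup is fixed by the connected group. -/
theorem mem_fixedUnder_of_borel {H S : Over (Spec (CommRingCat.of k))} [GrpObj H] [GrpObj S] [IsAffine H.left]
    [Smooth H.hom] [ConnectedSpace H.left] (i : H ⟶ G) [IsMonHom i] {iS : S ⟶ H} (hS : Red.IsBorelOver k iS)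
    {M : Type u} [AddCommGroup M] [Module k M] (ρ : VecGrp.GMod G M) {a : M}
    (ha : ∀ q : VecGrp.pt k k ⟶ S, ptAct ρ (q ≫ iS ≫ i) a = a) : a ∈ ρ.fixedUnder i := by
  refine mem_fixedUnder_of_points ρ fun y => sub_eq_zero.1 ?_
  refine (Module.forall_dual_apply_eq_zero_iff k _).1 fun ξ => ?_
  let F : Γ(H.left, ⊤) := i.left.appTop (coef ρ ξ a)
  have hval : ∀ z : VecGrp.pt k k ⟶ H, val z F = ξ (ptAct ρ (z ≫ i) a) := fun z => by
    rw [appTop_val, ← ctr_rho, rho_tmul, ctr_tmul, smul_eq_mul, _root_.mul_one]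
  have hF : ∀ (x : VecGrp.pt k k ⟶ H) (q : VecGrp.pt k k ⟶ S), val (x * (q ≫ iS)) F = val x F := fun x q => by
    rw [hval, hval, MonObj.mul_comp, ptAct_mul, Category.assoc, ha]
  have := const_of_invariant_borel hS F hF y 1
  rw [hval, hval, MonObj.one_comp, ptAct_one] at this
  rw [map_sub, this, sub_self]

variable {A : Type u} [CommRing A] [Algebra k A] {ρ : VecGrp.GMod G A}

set_option maxHeartbeats 800000 in
/-- Finite generation passes from the identity component to the group. -/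
theorem fg_fixed_of_component (hρ : ρ.IsMult) {H H₀ : Over (Spec (CommRingCat.of k))} [GrpObj H] [GrpObj H₀]
    [IsAffine H.left] [Smooth H.hom] (jH : H₀ ⟶ H) [IsMonHom jH] [IsOpenImmersion jH.left] (i : H ⟶ G) [IsMonHom i]
    (hfg : (ρ.fixedSubalgebra hρ (jH ≫ i)).FG) : (ρ.fixedSubalgebra hρ i).FG := by
  classical
  set R := ρ.fixedSubalgebra hρ (jH ≫ i)
  set B₀ := ρ.fixedSubalgebra hρ i
  have hle : B₀ ≤ R := fun a ha B _ _ h => by
    rw [← Category.assoc]
    exact ha B (h ≫ jH)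
  obtain ⟨s, hs⟩ := exists_finite_cosets jH
  letI : Algebra B₀ R := (Subalgebra.inclusion hle).toRingHom.toAlgebra
  haveI : IsScalarTower k B₀ R := IsScalarTower.of_algebraMap_eq fun c => ((Subalgebra.inclusion hle).commutes c).symm
  have hint : ∀ r : R, IsIntegral B₀ r := fun r => by
    let Q : Finset A := (s.image fun c => ptAct ρ (c⁻¹ ≫ i) r.1).filter
      fun b => ∃ h : VecGrp.pt k k ⟶ H, ptAct ρ (h ≫ i) r.1 = b
    have horb : ∀ h : VecGrp.pt k k ⟶ H, ptAct ρ (h ≫ i) r.1 ∈ Q := fun h => by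
      obtain ⟨c, hc, y, hy⟩ := hs h
      refine Finset.mem_filter.2 ⟨Finset.mem_image.2 ⟨c, hc, ?_⟩, h, rfl⟩
      rw [show h = c⁻¹ * (y ≫ jH) by rw [hy, inv_mul_cancel_left], MonObj.mul_comp, ptAct_mul, Category.assoc,
        ptAct_eq_of_fixed ρ r.2 y]
    let P : Polynomial A := ∏ b ∈ Q, (Polynomial.X - Polynomial.C b)
    have hmonic : P.Monic := Polynomial.monic_prod_of_monic _ _ fun b _ => Polynomial.monic_X_sub_C b
    have hP0 : P.eval r.1 = 0 := by
      rw [Polynomial.eval_prod]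
      refine Finset.prod_eq_zero (i := r.1) ?_ (by simp)
      simpa only [MonObj.one_comp, ptAct_one] using horb 1
    have hfix : ∀ h : VecGrp.pt k k ⟶ H, P.map (ptAlg hρ (h ≫ i)).toRingHom = P := fun h => by
      have hinj : Function.Injective (ptAct ρ (h ≫ i)) := Function.LeftInverse.injective
        (g := ptAct ρ (h ≫ i)⁻¹) fun a => by rw [← ptAct_mul, inv_mul_cancel, ptAct_one]
      have himg : Q.image (ptAct ρ (h ≫ i)) = Q := by
        refine Finset.eq_of_subset_of_card_le ?_ (Finset.card_image_of_injective _ hinj).ge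
        intro b hb
        obtain ⟨b', hb', rfl⟩ := Finset.mem_image.1 hb
        obtain ⟨h', rfl⟩ := (Finset.mem_filter.1 hb').2
        rw [← ptAct_mul, ← MonObj.mul_comp]
        exact horb _
      rw [Polynomial.map_prod]
      conv_rhs => rw [show P = ∏ b ∈ Q.image (ptAct ρ (h ≫ i)), (Polynomial.X - Polynomial.C b) by rw [himg],
        Finset.prod_image fun x _ y _ e => hinj e]
      exact Finset.prod_congr rfl fun b _ => by
        rw [Polynomial.map_sub, Polynomial.map_X, Polynomial.map_C]; rfl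
    have hlift : P ∈ Polynomial.lifts B₀.val.toRingHom := by
      refine (Polynomial.lifts_iff_coeff_lifts _).2 fun m => ⟨⟨P.coeff m, ?_⟩, rfl⟩
      exact mem_fixedUnder_of_points ρ fun h => by
        conv_rhs => rw [← hfix h]
        rw [Polynomial.coeff_map]
        rfl
    obtain ⟨q, hq, -, hqm⟩ := Polynomial.lifts_and_natDegree_eq_and_monic hlift hmonic
    refine ⟨q, hqm, Subtype.val_injective ?_⟩
    show R.val.toRingHom (Polynomial.eval₂ (algebraMap B₀ R) r q) = R.val.toRingHom 0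
    rw [Polynomial.hom_eval₂, map_zero, ← hP0, ← hq, Polynomial.eval_map]
    rfl
  haveI : Algebra.IsIntegral B₀ R := ⟨hint⟩
  haveI : Algebra.FiniteType k R := (Subalgebra.fg_iff_finiteType R).1 hfg
  haveI : Algebra.FiniteType B₀ R := Algebra.FiniteType.of_restrictScalars_finiteType k B₀ R
  haveI : Module.Finite B₀ R := Algebra.IsIntegral.finite
  refine (Subalgebra.fg_top _).1 (fg_of_fg_of_fg k B₀ R Algebra.FiniteType.out Module.Finite.fg_top fun a b e => ?_)
  exact Subalgebra.inclusion_injective hle e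

variable [Smooth G.hom]

set_option maxHeartbeats 1600000 in
/-- **Subgroups containing a maximal unipotent subgroup have finitely generated invariants.** -/
theorem finiteType_fixed_of_contains {H : Over (Spec (CommRingCat.of k))} [GrpObj H] [Smooth H.hom] (i : H ⟶ G)
    [IsMonHom i] [IsClosedImmersion i.left] (hG : VecGrp.IsReductiveGrp k G)
    {B U : Over (Spec (CommRingCat.of k))} [GrpObj B] [GrpObj U] {iB : B ⟶ G} {u : U ⟶ B}
    (hB : Red.IsBorelOver k iB) (hU : Par.IsUnipotentRadical u) (f : U ⟶ H) (hf : f ≫ i = u ≫ iB)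
    (thmA : VecGrp.ReductiveInvariantsFG k) [Algebra.FiniteType k A] (hρ : ρ.IsMult) :
    Algebra.FiniteType k ↥(ρ.fixedSubalgebra hρ i) := by
  classical
  haveI : IsAffine H.left := isAffine_of_isAffineHom i.left
  obtain ⟨hm, hc, hs, hn, -, -⟩ := id hB
  haveI := hm
  haveI := hc
  haveI := hs
  haveI := hn
  obtain ⟨hum, huc, -, hus, -, hun, huns, -⟩ := (isUnipotentRadical_iff u).1 hU
  haveI := hum
  haveI := huc
  haveI := hus
  haveI := hun
  haveI : IsClosedImmersion (u ≫ iB).left := by rw [Over.comp_left]; infer_instance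
  haveI : IsAffine U.left := isAffine_of_isAffineHom (u ≫ iB).left
  obtain ⟨G₀, _, j, l, hj, hjo, hjc, hG₀a, hG₀s, hG₀c, hl₀, hl⟩ := exists_borel_component hB
  haveI := hj
  haveI := hjo
  haveI := hjc
  haveI := hG₀a
  haveI := hG₀s
  haveI := hG₀c
  haveI : Mono j := Over.mono_of_mono_left j
  obtain ⟨H₀, _, jH, hjH, hjHo, hH₀c⟩ := BorelFix21.exists_identity_component H
  haveI := hjH
  haveI := hjHo
  haveI := hH₀c
  haveI := isClosedImmersion_of_open_subgroup jH
  haveI : IsAffine H₀.left := isAffine_of_isAffineHom jH.left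
  haveI : Smooth H₀.hom := smooth_of_openImmersion jH
  haveI : Mono i := Over.mono_of_mono_left i
  haveI : IsMonHom (u ≫ iB) := inferInstance
  haveI : IsMonHom f := BorelFix21.isMonHom_of_comp i f (hf ▸ ‹IsMonHom (u ≫ iB)›)
  obtain ⟨f₀, hf₀⟩ := BorelFix21.exists_lift_component jH (isClosed_range jH) f
  haveI : Mono jH := Over.mono_of_mono_left jH
  haveI : IsMonHom f₀ := BorelFix21.isMonHom_of_comp jH f₀ (hf₀ ▸ ‹IsMonHom f›)
  haveI : IsClosedImmersion (f₀.left ≫ (jH ≫ i).left) := by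
    rw [← Over.comp_left, ← Category.assoc, hf₀, hf]; infer_instance
  haveI : IsClosedImmersion (jH ≫ i).left := by rw [Over.comp_left]; infer_instance
  haveI : IsClosedImmersion f₀.left := IsClosedImmersion.of_comp f₀.left (jH ≫ i).left
  obtain ⟨S, _, iS, fS, hS, hfS⟩ := BorelFix21.exists_le_borel f₀ (isSolvableGrp_of_hasNoSubtorus U huns)
  obtain ⟨hSm, hSc, hSs, hSn, hSsol, -⟩ := id hS
  haveI := hSm
  haveI := hSc
  haveI := hSs
  haveI := hSn
  haveI : IsAffine S.left := isAffine_of_isAffineHom iS.left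
  haveI : Mono iS := Over.mono_of_mono_left iS
  haveI : IsMonHom fS := BorelFix21.isMonHom_of_comp iS fS (hfS ▸ ‹IsMonHom f₀›)
  haveI : IsClosedImmersion (fS.left ≫ iS.left) := by rw [← Over.comp_left, hfS]; infer_instance
  haveI : IsClosedImmersion fS.left := IsClosedImmersion.of_comp fS.left iS.left
  let e : S ⟶ G := iS ≫ jH ≫ i
  have heU : fS ≫ e = u ≫ iB := by
    show fS ≫ iS ≫ jH ≫ i = _
    rw [← Category.assoc, hfS, ← Category.assoc, hf₀, hf]
  obtain ⟨n, r, hr, hrc, hru⟩ := exists_upper_embedding (𝟙 S) hSsol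
  haveI := hr
  haveI := hrc
  haveI : IsClosedImmersion (𝟙 S : S ⟶ S).left := inferInstanceAs (IsClosedImmersion (𝟙 S.left))
  obtain ⟨V, _, v, hvm, hvc, hvs, hvn, hvnorm, hvns, hvpts⟩ := exists_unip_part r (𝟙 S) hru
  haveI := hvm
  haveI := hvc
  haveI := hvs
  haveI := hvn
  obtain ⟨g, hg⟩ := exists_lift_unip_part r hru hvpts fS huns
  haveI : IsAffine V.left := isAffine_of_isAffineHom v.left
  obtain ⟨w, hw⟩ := BorelFix21.exists_lift_component j (isClosed_range j) (v ≫ e)
  haveI : IsMonHom w := BorelFix21.isMonHom_of_comp j w (hw ▸ inferInstanceAs (IsMonHom (v ≫ e)))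
  haveI : IsClosedImmersion (w.left ≫ j.left) := by
    rw [← Over.comp_left, hw]
    simp only [e, Over.comp_left]
    infer_instance
  haveI : IsClosedImmersion w.left := IsClosedImmersion.of_comp w.left j.left
  have hVU : ∀ y : VecGrp.pt k k ⟶ V, ∃ q : VecGrp.pt k k ⟶ U, q ≫ u ≫ iB = y ≫ v ≫ e := fun y => by
    obtain ⟨q, hq⟩ := exists_pt_of_contains hl₀ hU w hvns g
      ((cancel_mono j).1 (by rw [Category.assoc, hw, ← Category.assoc, hg, heU, Category.assoc, hl])) y
    refine ⟨q, ?_⟩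
    rw [← hl, ← hw, ← Category.assoc y w j, ← hq]
    simp only [Category.assoc]
  haveI : IsClosedImmersion (𝟙 S ≫ r).left := by rw [Category.id_comp]; infer_instance
  obtain ⟨D⟩ := nonempty_decomp hru (isClosed_range_mtx (𝟙 S ≫ r)) (isPreirreducible_range_mtx' (𝟙 S ≫ r))
  obtain ⟨σ, _, d, C, s, hsm, -, -, hsr⟩ := exists_torus_subgroup (𝟙 S ≫ r) D.le D.closed D.irreducible D.P
    fun t ht => by rw [D.diag t ht]; exact Matrix.isDiag_diagonal _
  haveI := hsm
  obtain ⟨hσa, hσs, -, -⟩ := props_of_isTorus (isTorus_of_chars C)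
  haveI := hσa
  haveI := hσs
  have hAU : (ρ.fixedSubalgebra hρ (u ≫ iB)).FG := (Subalgebra.fg_iff_finiteType _).2
    (finiteType_fixed_of_fg_invSub (u ≫ iB) (fg_invSub_general hB hU) hG thmA ρ hρ)
  have hX := fg_inf_fixed_torus hρ (isTorus_of_chars C) (s ≫ e) thmA _ hAU fun τ a ha => by
    refine mem_fixedUnder_of_points ρ fun q => ?_
    obtain ⟨y, hy⟩ := hvnorm (VecGrp.pt k k) (τ ≫ s)⁻¹ (q ≫ g)
    obtain ⟨q', hq'⟩ := hVU y
    rw [inv_inv] at hy
    have h2 : q' ≫ u ≫ iB = (τ ≫ s ≫ e)⁻¹ * (q ≫ u ≫ iB) * (τ ≫ s ≫ e) := by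
      rw [hq', ← Category.assoc, ← hy, MonObj.mul_comp, MonObj.mul_comp, GrpObj.inv_comp]
      simp only [Category.assoc]
      rw [← Category.assoc g v e, hg, heU]
    rw [← ptAct_mul, show (q ≫ u ≫ iB) * (τ ≫ s ≫ e) = (τ ≫ s ≫ e) * (q' ≫ u ≫ iB) by rw [h2]; group,
      ptAct_mul, ptAct_eq_of_fixed ρ ha q']
  refine (Subalgebra.fg_iff_finiteType _).1 (fg_fixed_of_component hρ jH i ?_)
  suffices heq : ρ.fixedSubalgebra hρ (jH ≫ i) =
      ρ.fixedSubalgebra hρ (u ≫ iB) ⊓ ρ.fixedSubalgebra hρ (s ≫ e) from heq ▸ hX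
  refine le_antisymm (fun a ha => ?_) (fun a ha => mem_fixedUnder_of_borel (jH ≫ i) hS ρ fun q => ?_)
  · have hfac : ∀ {X : Over (Spec (CommRingCat.of k))} [GrpObj X] (m : X ⟶ H₀),
        a ∈ ρ.fixedSubalgebra hρ (m ≫ jH ≫ i) := fun m B' _ _ h => by
      rw [← Category.assoc]
      exact ha B' (h ≫ m)
    have h1 : a ∈ ρ.fixedSubalgebra hρ (u ≫ iB) := by
      rw [← hf, ← hf₀, Category.assoc]
      exact hfac f₀
    have h2 : a ∈ ρ.fixedSubalgebra hρ (s ≫ e) := by
      show a ∈ ρ.fixedSubalgebra hρ (s ≫ iS ≫ jH ≫ i)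
      rw [← Category.assoc s iS]
      exact hfac (s ≫ iS)
    exact ⟨h1, h2⟩
  · obtain ⟨t, ht, htb⟩ := D.exists_mem _ ⟨q, rfl⟩
    obtain ⟨τ, hτ⟩ : t ∈ (mtx (s ≫ 𝟙 S ≫ r)).range := hsr.symm ▸ ht
    obtain ⟨y, hy⟩ := (hvpts ((τ ≫ s)⁻¹ * q)).2 (by
      rw [map_mul, map_inv, ← mtx_comp s (𝟙 S ≫ r) τ, hτ]
      exact htb)
    obtain ⟨q', hq'⟩ := hVU y
    show ptAct ρ (q ≫ e) a = a
    rw [show q = (τ ≫ s) * (y ≫ v) by rw [hy, mul_inv_cancel_left], MonObj.mul_comp, ptAct_mul, Category.assoc y,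
      ← hq', ptAct_eq_of_fixed ρ (ha.1 : a ∈ ρ.fixedUnder (u ≫ iB)) q', Category.assoc]
    exact ptAct_eq_of_fixed ρ (ha.2 : a ∈ ρ.fixedUnder (s ≫ e)) τ

end Groth.Agent.UInvFG21
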