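import Groth.Agent.Lib.InvRing21.Extend
import Mathlib.RingTheory.TensorProduct.Maps

/-!
# Tensor products of rational actions by algebra automorphisms
-/

set_option autoImplicit false
set_option linter.style.haveILetI false
set_option backward.isDefEq.respectTransparency.types false
universe u

open CategoryTheory MonoidalCategory CartesianMonoidalCategory MonObj AlgebraicGeometry
open scoped TensorProduct

noncomputable section

namespace Groth.Agent.UInvFG21

open InvRing21

variable {k : Type u} [Field k] {G : Over (Spec (CommRingCat.of k))} [GrpObj G]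

section act

variable {A : Type u} [CommRing A] [Algebra k A] {ρ : VecGrp.GMod G A} (hρ : ρ.IsMult)

/-- A point acting as an algebra endomorphism. -/
def actHom {B : Type u} [CommRing B] [Algebra k B] (g : VecGrp.pt k B ⟶ G) : B ⊗[k] A →ₐ[B] B ⊗[k] A :=
  AlgHom.ofLinearMap (ρ.ρ B g).toLinearMap (hρ B g).2 (hρ B g).1

theorem actHom_apply {B : Type u} [CommRing B] [Algebra k B] (g : VecGrp.pt k B ⟶ G) (x : B ⊗[k] A) :
    actHom hρ g x = ρ.ρ B g x := rfl

theorem actHom_mul {B : Type u} [CommRing B] [Algebra k B] (g g' : VecGrp.pt k B ⟶ G) :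
    actHom hρ (g * g') = (actHom hρ g).comp (actHom hρ g') := AlgHom.ext fun x => rho_mul ρ g g' x

theorem actHom_one {B : Type u} [CommRing B] [Algebra k B] :
    actHom hρ (1 : VecGrp.pt k B ⟶ G) = AlgHom.id B _ :=
  AlgHom.ext fun x => by rw [actHom_apply, map_one]; rfl

/-- A rational point acting as an algebra endomorphism. -/
def ptAlg (g : VecGrp.pt k k ⟶ G) : A →ₐ[k] A :=
  (Algebra.TensorProduct.lid k A).toAlgHom.comp ((actHom hρ g).comp Algebra.TensorProduct.includeRight)

theorem ptAlg_apply (g : VecGrp.pt k k ⟶ G) (a : A) : ptAlg hρ g a = ptAct ρ g a := rfl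

end act

section linear

variable {M : Type u} [AddCommGroup M] [Module k M] (ρ : VecGrp.GMod G M)

theorem rho_tmul (g : VecGrp.pt k k ⟶ G) (a : M) :
    ρ.ρ k g ((1 : k) ⊗ₜ[k] a) = (1 : k) ⊗ₜ[k] ptAct ρ g a := by
  rw [ptAct, ← TensorProduct.lid_symm_apply (R := k) (TensorProduct.lid k M _), LinearEquiv.symm_apply_apply]

theorem ptAct_mul (g g' : VecGrp.pt k k ⟶ G) (a : M) : ptAct ρ (g * g') a = ptAct ρ g (ptAct ρ g' a) := by
  show TensorProduct.lid k M _ = TensorProduct.lid k M _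
  rw [rho_mul, rho_tmul]

theorem ptAct_one (a : M) : ptAct ρ (1 : VecGrp.pt k k ⟶ G) a = a := by
  rw [ptAct, map_one]
  exact (TensorProduct.lid_tmul a (1 : k)).trans (one_smul k a)

theorem ptAct_eq_of_fixed {H : Over (Spec (CommRingCat.of k))} [GrpObj H] {i : H ⟶ G} {a : M}
    (ha : a ∈ ρ.fixedUnder i) (h : VecGrp.pt k k ⟶ H) : ptAct ρ (h ≫ i) a = a := by
  rw [ptAct, ha k h]
  exact (TensorProduct.lid_tmul a (1 : k)).trans (one_smul k a)

/-- Fixed at rational points of a smooth affine group means fixed. -/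
theorem mem_fixedUnder_of_points [IsAlgClosed k] [IsAffine G.left] {H : Over (Spec (CommRingCat.of k))} [GrpObj H]
    [IsAffine H.left] [Smooth H.hom] {i : H ⟶ G} {a : M}
    (ha : ∀ h : VecGrp.pt k k ⟶ H, ptAct ρ (h ≫ i) a = a) : a ∈ ρ.fixedUnder i := by
  letI := InvRing21.gamAlg (k := k) H
  haveI := OrbitTop19.isReduced_of_smooth H.hom
  intro B _ _ h
  have := congrArg (VecGrp.Wmap (val h)) (fixed_of_points i ρ a fun h => by rw [rho_tmul, ha])
  rwa [ρ.naturality, VecGrp.Wmap_tmul, map_one, ← Category.assoc, ptMap_val] at this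

end linear

variable {A L : Type u} [CommRing A] [Algebra k A] [CommRing L] [Algebra k L]
  {ρ : VecGrp.GMod G A} (hρ : ρ.IsMult) {σ : VecGrp.GMod G L} (hσ : σ.IsMult)

variable (k A L) in
/-- The left factor after base change. -/
def inL (B : Type u) [CommRing B] [Algebra k B] : B ⊗[k] A →ₐ[B] B ⊗[k] (A ⊗[k] L) :=
  Algebra.TensorProduct.map (AlgHom.id B B) (Algebra.TensorProduct.includeLeft : A →ₐ[k] A ⊗[k] L)

variable (k A L) in
/-- The right factor after base change. -/
def inR (B : Type u) [CommRing B] [Algebra k B] : B ⊗[k] L →ₐ[B] B ⊗[k] (A ⊗[k] L) :=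
  Algebra.TensorProduct.map (AlgHom.id B B) (Algebra.TensorProduct.includeRight : L →ₐ[k] A ⊗[k] L)

theorem algHom_ext_inLR {B C : Type u} [CommRing B] [Algebra k B] [CommRing C] [Algebra k C] [Algebra B C]
    [IsScalarTower k B C] {F F' : B ⊗[k] (A ⊗[k] L) →ₐ[B] C}
    (h₁ : ∀ a : A, F (inL k A L B (1 ⊗ₜ a)) = F' (inL k A L B (1 ⊗ₜ a)))
    (h₂ : ∀ f : L, F (inR k A L B (1 ⊗ₜ f)) = F' (inR k A L B (1 ⊗ₜ f))) : F = F' :=
  Algebra.TensorProduct.ext (Subsingleton.elim _ _)
    (Algebra.TensorProduct.ext (AlgHom.ext h₁) (AlgHom.ext h₂))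

/-- The action on the tensor product. -/
def prodHom {B : Type u} [CommRing B] [Algebra k B] (g : VecGrp.pt k B ⟶ G) :
    B ⊗[k] (A ⊗[k] L) →ₐ[B] B ⊗[k] (A ⊗[k] L) :=
  Algebra.TensorProduct.lift (Algebra.ofId B _)
    (Algebra.TensorProduct.lift
      ((((inL k A L B).comp (actHom hρ g)).restrictScalars k).comp Algebra.TensorProduct.includeRight)
      ((((inR k A L B).comp (actHom hσ g)).restrictScalars k).comp Algebra.TensorProduct.includeRight)
      fun _ _ => Commute.all _ _)
    fun _ _ => Commute.all _ _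

theorem prodHom_inL {B : Type u} [CommRing B] [Algebra k B] (g : VecGrp.pt k B ⟶ G) (x : B ⊗[k] A) :
    prodHom hρ hσ g (inL k A L B x) = inL k A L B (actHom hρ g x) := by
  refine DFunLike.congr_fun (show (prodHom hρ hσ g).comp (inL k A L B) = (inL k A L B).comp (actHom hρ g) from
    Algebra.TensorProduct.ext (Subsingleton.elim _ _) (AlgHom.ext fun a => ?_)) x
  simp [prodHom, inL, map_one]

theorem prodHom_inR {B : Type u} [CommRing B] [Algebra k B] (g : VecGrp.pt k B ⟶ G) (x : B ⊗[k] L) :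
    prodHom hρ hσ g (inR k A L B x) = inR k A L B (actHom hσ g x) := by
  refine DFunLike.congr_fun (show (prodHom hρ hσ g).comp (inR k A L B) = (inR k A L B).comp (actHom hσ g) from
    Algebra.TensorProduct.ext (Subsingleton.elim _ _) (AlgHom.ext fun a => ?_)) x
  simp [prodHom, inR, map_one]

theorem prodHom_mul {B : Type u} [CommRing B] [Algebra k B] (g g' : VecGrp.pt k B ⟶ G) :
    prodHom hρ hσ (g * g') = (prodHom hρ hσ g).comp (prodHom hρ hσ g') :=
  algHom_ext_inLR
    (fun a => by rw [AlgHom.comp_apply, prodHom_inL, prodHom_inL, prodHom_inL, actHom_mul, AlgHom.comp_apply])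
    fun f => by rw [AlgHom.comp_apply, prodHom_inR, prodHom_inR, prodHom_inR, actHom_mul, AlgHom.comp_apply]

theorem prodHom_one {B : Type u} [CommRing B] [Algebra k B] :
    prodHom hρ hσ (1 : VecGrp.pt k B ⟶ G) = AlgHom.id B _ :=
  algHom_ext_inLR (fun a => by rw [prodHom_inL, actHom_one]; rfl) fun f => by rw [prodHom_inR, actHom_one]; rfl

/-- The action on the tensor product as automorphisms. -/
def prodEquiv {B : Type u} [CommRing B] [Algebra k B] (g : VecGrp.pt k B ⟶ G) :
    B ⊗[k] (A ⊗[k] L) ≃ₐ[B] B ⊗[k] (A ⊗[k] L) :=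
  AlgEquiv.ofAlgHom (prodHom hρ hσ g) (prodHom hρ hσ g⁻¹) (by rw [← prodHom_mul, mul_inv_cancel, prodHom_one])
    (by rw [← prodHom_mul, inv_mul_cancel, prodHom_one])

theorem Wmap_eq_map {M : Type u} [CommRing M] [Algebra k M] {B B' : Type u} [CommRing B] [Algebra k B] [CommRing B']
    [Algebra k B'] (φ : B →ₐ[k] B') (z : B ⊗[k] M) :
    VecGrp.Wmap φ z = Algebra.TensorProduct.map φ (AlgHom.id k M) z := by
  induction z using TensorProduct.induction_on with
  | zero => simp
  | tmul b f => rfl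
  | add x y hx hy => simp only [map_add, hx, hy]

theorem Wmap_inL {B B' : Type u} [CommRing B] [Algebra k B] [CommRing B'] [Algebra k B'] (φ : B →ₐ[k] B')
    (z : B ⊗[k] A) : VecGrp.Wmap φ (inL k A L B z) = inL k A L B' (VecGrp.Wmap φ z) := by
  induction z using TensorProduct.induction_on with
  | zero => simp
  | tmul b f => rfl
  | add x y hx hy => simp only [map_add, hx, hy]

theorem Wmap_inR {B B' : Type u} [CommRing B] [Algebra k B] [CommRing B'] [Algebra k B'] (φ : B →ₐ[k] B')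
    (z : B ⊗[k] L) : VecGrp.Wmap φ (inR k A L B z) = inR k A L B' (VecGrp.Wmap φ z) := by
  induction z using TensorProduct.induction_on with
  | zero => simp
  | tmul b f => rfl
  | add x y hx hy => simp only [map_add, hx, hy]

/-- The tensor product of two actions by algebra automorphisms. -/
def prodMod : VecGrp.GMod G (A ⊗[k] L) where
  ρ B _ _ :=
    { toFun := fun g => (prodEquiv hρ hσ g).toLinearEquiv
      map_one' := LinearEquiv.ext fun x => DFunLike.congr_fun (prodHom_one hρ hσ) x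
      map_mul' := fun g g' => LinearEquiv.ext fun x => DFunLike.congr_fun (prodHom_mul hρ hσ g g') x }
  naturality {B B'} _ _ _ _ φ g x := by
    show VecGrp.Wmap φ (prodHom hρ hσ g x) = prodHom hρ hσ (VecGrp.ptMap φ ≫ g) (VecGrp.Wmap φ x)
    let Φ := Algebra.TensorProduct.map φ (AlgHom.id k (A ⊗[k] L))
    simp only [Wmap_eq_map]
    refine DFunLike.congr_fun (show Φ.comp ((prodHom hρ hσ g).restrictScalars k) =
      ((prodHom hρ hσ (VecGrp.ptMap φ ≫ g)).restrictScalars k).comp Φ from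
      Algebra.TensorProduct.ext (AlgHom.ext fun b => ?_)
        (Algebra.TensorProduct.ext (AlgHom.ext fun a => ?_) (AlgHom.ext fun f => ?_))) x
    · show Φ (prodHom hρ hσ g (b ⊗ₜ[k] 1)) = prodHom hρ hσ _ (φ b ⊗ₜ[k] 1)
      exact (congrArg Φ ((prodHom hρ hσ g).commutes b)).trans
        ((Algebra.TensorProduct.map_tmul φ _ b 1).trans ((prodHom hρ hσ _).commutes (φ b)).symm)
    · show Φ (prodHom hρ hσ g (inL k A L B (1 ⊗ₜ a))) = prodHom hρ hσ _ (Φ (inL k A L B (1 ⊗ₜ a)))
      rw [prodHom_inL, ← Wmap_eq_map, ← Wmap_eq_map, Wmap_inL, Wmap_inL, prodHom_inL, actHom_apply, actHom_apply,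
        ρ.naturality]
    · show Φ (prodHom hρ hσ g (inR k A L B (1 ⊗ₜ f))) = prodHom hρ hσ _ (Φ (inR k A L B (1 ⊗ₜ f)))
      rw [prodHom_inR, ← Wmap_eq_map, ← Wmap_eq_map, Wmap_inR, Wmap_inR, prodHom_inR, actHom_apply, actHom_apply,
        σ.naturality]

theorem prodMod_isMult : (prodMod hρ hσ).IsMult := fun _ _ _ g =>
  ⟨fun x y => map_mul (prodHom hρ hσ g) x y, map_one (prodHom hρ hσ g)⟩

theorem ptAct_prodMod_left (g : VecGrp.pt k k ⟶ G) (a : A) :
    ptAct (prodMod hρ hσ) g (a ⊗ₜ[k] (1 : L)) = ptAct ρ g a ⊗ₜ[k] (1 : L) := by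
  show TensorProduct.lid k _ (prodHom hρ hσ g (inL k A L k (1 ⊗ₜ a))) = _
  rw [prodHom_inL, actHom_apply, rho_tmul]
  exact (TensorProduct.lid_tmul _ _).trans (one_smul k _)

theorem ptAct_prodMod_right (g : VecGrp.pt k k ⟶ G) (f : L) :
    ptAct (prodMod hρ hσ) g ((1 : A) ⊗ₜ[k] f) = (1 : A) ⊗ₜ[k] ptAct σ g f := by
  show TensorProduct.lid k _ (prodHom hρ hσ g (inR k A L k (1 ⊗ₜ f))) = _
  rw [prodHom_inR, actHom_apply, rho_tmul]
  exact (TensorProduct.lid_tmul _ _).trans (one_smul k _)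

end Groth.Agent.UInvFG21
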