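import Groth.Agent.Lib.UInvFG21.Main
import Groth.Agent.Lib.UInvFG21.Prod
import Groth.Agent.Lib.GrassAct21.Sub
import Mathlib.RingTheory.Flat.Basic

/-!
# The transfer principle: finitely generated `k[G]^H` gives finitely generated invariants
-/

set_option autoImplicit false
set_option linter.style.haveILetI false
set_option backward.isDefEq.respectTransparency.types false
universe u

open CategoryTheory MonoidalCategory CartesianMonoidalCategory MonObj AlgebraicGeometry
open scoped TensorProduct

noncomputable section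

namespace Groth.Agent.UInvFG21

open InvRing21

attribute [local instance] InvRing21.gamAlg BorelFix21.ptsTop

variable {k : Type u} [Field k] [IsAlgClosed k] {G : Over (Spec (CommRingCat.of k))} [GrpObj G]
  [IsAffine G.left] [Smooth G.hom]

omit [IsAlgClosed k] [Smooth G.hom] in
theorem val_lid (x : VecGrp.pt k k ⟶ G) (z : k ⊗[k] Γ(G.left, ⊤)) :
    val x (TensorProduct.lid k _ z) =
      Algebra.TensorProduct.lift (AlgHom.id k k) (val x) (fun _ _ => mul_comm _ _) z := by
  induction z using TensorProduct.induction_on with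
  | zero => simp
  | tmul c f => simp
  | add p q hp hq => simp only [map_add, hp, hq]

omit [IsAlgClosed k] [Smooth G.hom] in
theorem val_ptAct_regular (x g : VecGrp.pt k k ⟶ G) (f : Γ(G.left, ⊤)) :
    val x (ptAct (regular G) g f) = val (x * g) f := by
  rw [ptAct, val_lid, val_mul_eq]

set_option maxHeartbeats 1000000 in
/-- A subalgebra of functions stable under right translation is a rational algebra. -/
theorem exists_algMod (L : Subalgebra k Γ(G.left, ⊤))
    (hL : ∀ (g : VecGrp.pt k k ⟶ G), ∀ f ∈ L, (rTr g).left.appTop f ∈ L) :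
    ∃ σ : VecGrp.GMod G L, σ.IsMult ∧
      ∀ (g x : VecGrp.pt k k ⟶ G) (f : L), val x (ptAct σ g f).1 = val (x * g) f.1 := by
  obtain ⟨σ, hσ⟩ := GrassAct21.exists_subMod (regular G) (Subalgebra.toSubmodule L) fun g f hf => by
    have h : TensorProduct.lid k _ ((regular G).ρ k g ((1 : k) ⊗ₜ[k] f)) = (rTr g).left.appTop f :=
      ext_val fun x => (val_ptAct_regular x g f).trans (val_rTr x g f).symm
    rw [h]
    exact hL g f hf
  refine ⟨σ, fun B _ _ g => ?_, fun g x f => ?_⟩
  · let S : B ⊗[k] L →ₐ[B] B ⊗[k] Γ(G.left, ⊤) := Algebra.TensorProduct.map (AlgHom.id B B) L.val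
    have hS : ∀ z, S z = (Subalgebra.toSubmodule L).subtype.baseChange B z := fun z => by
      induction z using TensorProduct.induction_on with
      | zero => simp
      | tmul b f => rfl
      | add p q hp hq => simp only [map_add, hp, hq]
    have hinj : Function.Injective S := fun a b hab => by
      rw [hS, hS] at hab
      exact Module.Flat.lTensor_preserves_injective_linearMap (M := B) _
        (Subalgebra.toSubmodule L).injective_subtype hab
    have hc : ∀ z, S (σ.ρ B g z) = tr g (S z) := fun z => by rw [hS, hS]; exact hσ B g z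
    exact ⟨fun p q => hinj (by rw [hc, map_mul S, map_mul (tr g), map_mul S, hc, hc]),
      hinj (by rw [hc, map_one S, map_one (tr g)])⟩
  · rw [← val_ptAct_regular]
    refine congrArg (val x) ?_
    have := congrArg (TensorProduct.lid k Γ(G.left, ⊤)) (hσ k g ((1 : k) ⊗ₜ[k] f))
    rw [GrassAct21.lid_baseChange, LinearMap.baseChange_tmul] at this
    exact this

variable {A : Type u} [CommRing A] [Algebra k A] {L : Subalgebra k Γ(G.left, ⊤)}

variable (A L) in
/-- Evaluation of the function factor at a point. -/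
def evX (x : VecGrp.pt k k ⟶ G) : A ⊗[k] L →ₐ[k] A :=
  Algebra.TensorProduct.lift (AlgHom.id k A) ((Algebra.ofId k A).comp ((val x).comp L.val))
    fun _ _ => Commute.all _ _

theorem eq_of_evX {z z' : A ⊗[k] L} (h : ∀ x, evX A L x z = evX A L x z') : z = z' := by
  refine sub_eq_zero.1 (UnitsRos.eq_zero_of_contr fun l => Subtype.ext (ext_val fun x => ?_))
  have key : ∀ w : A ⊗[k] L, val x ((UnitsRos.contr l w : L) : Γ(G.left, ⊤)) = l (evX A L x w) := fun w => by
    induction w using TensorProduct.induction_on with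
    | zero => simp
    | tmul a f =>
      rw [UnitsRos.contr_tmul, evX, Algebra.TensorProduct.lift_tmul, SetLike.val_smul, map_smul, AlgHom.id_apply,
        AlgHom.comp_apply, Algebra.ofId_apply, ← Algebra.commutes, ← Algebra.smul_def, map_smul, smul_eq_mul,
        smul_eq_mul, mul_comm]
      rfl
    | add p q hp hq => simp only [map_add, AddMemClass.coe_add, hp, hq]
  rw [key, map_sub, h, sub_self, map_zero]
  exact (map_zero (val x)).symm

set_option maxHeartbeats 1600000 in
/-- **Transfer principle.** If `k[G]^H` is finitely generated, so are the `H`-invariants of every finitely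
generated `G`-algebra. -/
theorem finiteType_fixed_of_fg_invSub {H : Over (Spec (CommRingCat.of k))} [GrpObj H] [IsAffine H.left]
    [Smooth H.hom] (i : H ⟶ G) [IsMonHom i] (hfg : (invSub i).FG) (hG : VecGrp.IsReductiveGrp k G)
    (thmA : VecGrp.ReductiveInvariantsFG k) [Algebra.FiniteType k A] (ρ : VecGrp.GMod G A) (hρ : ρ.IsMult) :
    Algebra.FiniteType k ↥(ρ.fixedSubalgebra hρ i) := by
  classical
  let ic : G ⟶ G := (𝟙 G)⁻¹
  let L : Subalgebra k Γ(G.left, ⊤) := (invSub i).map (appAlg ic)
  haveI : Algebra.FiniteType k L := (Subalgebra.fg_iff_finiteType L).1 (hfg.map _)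
  haveI : Algebra.FiniteType k (A ⊗[k] L) := Algebra.FiniteType.trans (S := A) inferInstance inferInstance
  have hLr : ∀ (g : VecGrp.pt k k ⟶ G), ∀ f ∈ L, (rTr g).left.appTop f ∈ L := by
    rintro g _ ⟨f, hf, rfl⟩
    refine ⟨(lTr g⁻¹).left.appTop f, fun x q => ?_, ext_val fun x => ?_⟩
    · rw [val_lTr, val_lTr, ← _root_.mul_assoc]
      exact hf _ q
    · show val x (ic.left.appTop _) = val x ((rTr g).left.appTop (ic.left.appTop f))
      rw [val_inv_appTop, val_lTr, val_rTr, val_inv_appTop, mul_inv_rev]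
  have hLi : ∀ (h : VecGrp.pt k k ⟶ H), ∀ f ∈ L, val (h ≫ i) f = val 1 f := by
    rintro h _ ⟨f, hf, rfl⟩
    show val _ (ic.left.appTop f) = val 1 (ic.left.appTop f)
    rw [val_inv_appTop, val_inv_appTop, inv_one, ← GrpObj.inv_comp, ← _root_.one_mul (h⁻¹ ≫ i)]
    exact hf 1 h⁻¹
  obtain ⟨σ, hσ, hσv⟩ := exists_algMod L hLr
  let π : VecGrp.GMod G (A ⊗[k] L) := prodMod hρ hσ
  have hπ : π.IsMult := prodMod_isMult hρ hσ
  have key : ∀ (x g : VecGrp.pt k k ⟶ G) (F : A ⊗[k] L),
      evX A L x (ptAct π g F) = ptAct ρ g (evX A L (x * g) F) := by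
    intro x g F
    refine DFunLike.congr_fun (show (evX A L x).comp (ptAlg hπ g) = (ptAlg hρ g).comp (evX A L (x * g)) from
      Algebra.TensorProduct.ext (AlgHom.ext fun a => ?_) (AlgHom.ext fun f => ?_)) F
    · show evX A L x (ptAct π g (a ⊗ₜ[k] (1 : L))) = ptAlg hρ g (evX A L (x * g) (a ⊗ₜ[k] (1 : L)))
      rw [ptAct_prodMod_left, ← ptAlg_apply hρ]
      simp [evX]
    · show evX A L x (ptAct π g ((1 : A) ⊗ₜ[k] f)) = ptAlg hρ g (evX A L (x * g) ((1 : A) ⊗ₜ[k] f))
      rw [ptAct_prodMod_right]
      simp [evX, hσv]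
  -- invariants map onto invariants
  have hdown : ∀ F ∈ π.fixedUnder (𝟙 G), evX A L 1 F ∈ ρ.fixedUnder i := fun F hF => by
    refine mem_fixedUnder_of_points ρ fun h => ?_
    have hev : evX A L (1 * (h ≫ i)) = evX A L 1 :=
      Algebra.TensorProduct.ext (AlgHom.ext fun a => by simp [evX]) (AlgHom.ext fun f => by
        rw [_root_.one_mul (h ≫ i)]
        simp [evX, hLi h f f.2])
    have e : ptAct π (h ≫ i) F = F := by
      have := ptAct_eq_of_fixed π hF (h ≫ i)
      rwa [Category.comp_id] at this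
    conv_lhs => rw [← hev, ← key, e]
  have hup : ∀ a ∈ ρ.fixedUnder i, ∃ F ∈ π.fixedUnder (𝟙 G), evX A L 1 F = a := by
    intro a ha
    obtain ⟨W, hWf, haW, hW⟩ := exists_stable_span ρ {a}
    haveI := hWf
    let e := Module.finBasis k W
    obtain ⟨ξ, -, hexp, -⟩ := exists_coords ρ hW e
    have hc : ∀ j, coef ρ (ξ j) a ∈ invSub i := fun j x q => by
      rw [← ctr_rho, ← ctr_rho, rho_mul, ha k q]
    let F : A ⊗[k] L :=
      ∑ j, (e j : A) ⊗ₜ[k] (⟨ic.left.appTop (coef ρ (ξ j) a), _, hc j, rfl⟩ : L)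
    have hF : ∀ x, evX A L x F = ptAct ρ x⁻¹ a := fun x => by
      obtain ⟨n, c, v, hv, he⟩ := hW a (haW a (Finset.mem_singleton_self a)) k x⁻¹
      have hmem : ptAct ρ x⁻¹ a ∈ W := by
        rw [ptAct, he, map_sum]
        exact W.sum_mem fun r _ => by rw [TensorProduct.lid_tmul]; exact W.smul_mem _ (hv r)
      rw [hexp _ hmem]
      simp only [F, map_sum]
      refine Finset.sum_congr rfl fun j _ => ?_
      show (e j : A) * algebraMap k A (val x (ic.left.appTop (coef ρ (ξ j) a))) = _
      rw [val_inv_appTop, ← ctr_rho, rho_tmul, ctr_tmul, ← Algebra.commutes, ← Algebra.smul_def, smul_eq_mul,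
        _root_.mul_one]
    refine ⟨F, mem_fixedUnder_of_points π fun g => ?_, by rw [hF, inv_one, ptAct_one]⟩
    rw [Category.comp_id]
    refine eq_of_evX fun x => ?_
    rw [key, hF, hF, ← ptAct_mul, mul_inv_rev, mul_inv_cancel_left]
  obtain ⟨s, hs, hgen⟩ := thmA G hG (A ⊗[k] L) π hπ inferInstance
  refine (Subalgebra.fg_iff_finiteType _).1 ⟨s.image (evX A L 1), le_antisymm (Algebra.adjoin_le ?_) fun a ha => ?_⟩
  · rw [Finset.coe_image]
    rintro _ ⟨F, hF, rfl⟩
    exact hdown F (hs hF)
  · obtain ⟨F, hF, rfl⟩ := hup a ha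
    rw [Finset.coe_image, ← AlgHom.map_adjoin]
    exact ⟨F, hgen hF, rfl⟩

/-- Conversely, the criterion applied to the regular representation. -/
theorem regular_isMult : (regular G).IsMult := fun _ _ _ g => ⟨map_mul (tr g), map_one (tr g)⟩

theorem fixedSubalgebra_regular {H : Over (Spec (CommRingCat.of k))} [GrpObj H] [IsAffine H.left]
    [Smooth H.hom] (i : H ⟶ G) : (regular G).fixedSubalgebra regular_isMult i = invSub i :=
  SetLike.ext fun f => by
    rw [mem_invSub, ← isRTransInv_iff_val]
    refine ⟨fun hf => isRTransInv_of_regular_fixed i f ?_, fun hf => mem_fixedUnder_regular i f hf⟩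
    exact hf _ (uPt H)

end Groth.Agent.UInvFG21
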